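import Cfsg.Agent.RuC.Cov

/-!
# Lifting 2-elements
-/

set_option autoImplicit false
set_option Elab.async false

namespace Cfsg.Agent.RuC

open Subgroup Cfsg.Agent.RuB

/-- elements of 2-power order -/
def Two {X : Type*} [Group X] (x : X) : Prop := ∃ n : ℕ, x ^ (2 ^ n) = 1

theorem Two.conj {X : Type*} [Group X] {x : X} (h : Two x) (g : X) : Two (g * x * g⁻¹) := by
  obtain ⟨n, hn⟩ := h
  exact ⟨n, by rw [conj_pow, hn, mul_one, mul_inv_cancel]⟩

theorem Two.conj' {X : Type*} [Group X] {x : X} (h : Two x) (g : X) : Two (g⁻¹ * x * g) := by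
  have := h.conj g⁻¹
  rwa [inv_inv] at this

theorem two_of_sq {X : Type*} [Group X] {x : X} (h : x * x = 1) : Two x := ⟨1, by rw [pow_one, sq, h]⟩

theorem two_one {X : Type*} [Group X] : Two (1 : X) := ⟨0, by rw [one_pow]⟩

theorem Two.inv {X : Type*} [Group X] {x : X} (h : Two x) : Two x⁻¹ := by
  obtain ⟨n, hn⟩ := h
  exact ⟨n, by rw [inv_pow, hn, inv_one]⟩

theorem Two.eq_one {X : Type*} [Group X] {x : X} (h : Two x) {m : ℕ} (hm : Odd m) (hx : x ^ m = 1) : x = 1 := by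
  obtain ⟨n, hn⟩ := h
  exact two_odd hn hm hx

theorem Two.mul {X : Type*} [Group X] {x y : X} (hx : Two x) (hy : Two y) (hc : x * y = y * x) : Two (x * y) := by
  obtain ⟨n, hn⟩ := hx
  obtain ⟨m, hm⟩ := hy
  exact ⟨n + m, pow_two_mul hn hm hc⟩

theorem Two.map {X Y : Type*} [Group X] [Group Y] {x : X} (h : Two x) (f : X →* Y) : Two (f x) := by
  obtain ⟨n, hn⟩ := h
  exact ⟨n, by rw [← map_pow, hn, map_one]⟩

theorem two_of_isPGroup {X : Type*} [Group X] {P : Subgroup X} (hP : IsPGroup 2 P) {x : X} (hx : x ∈ P) : Two x := by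
  obtain ⟨n, hn⟩ := hP ⟨x, hx⟩
  exact ⟨n, congrArg Subtype.val hn⟩

theorem isPGroup_of_two {X : Type*} [Group X] {P : Subgroup X} (h : ∀ x ∈ P, Two x) : IsPGroup 2 P := by
  rintro ⟨x, hx⟩
  obtain ⟨n, hn⟩ := h x hx
  exact ⟨n, Subtype.ext hn⟩

theorem two_coe {X : Type*} [Group X] {P : Subgroup X} {x : P} : Two (x : X) ↔ Two x := by
  constructor
  · rintro ⟨n, hn⟩
    exact ⟨n, Subtype.ext hn⟩
  · rintro ⟨n, hn⟩
    exact ⟨n, congrArg Subtype.val hn⟩

namespace OCov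

variable {M K : Type*} [Group M] [Group K] {φ : M →* K} (h : OCov φ)

include h in
theorem exists_lf {x : K} (hx : Two x) : ∃ y : M, φ y = x ∧ Two y := by
  obtain ⟨n, hn⟩ := hx
  obtain ⟨y, hy, hy2⟩ := h.exists_lift hn
  exact ⟨y, hy, n, hy2⟩

include h in
theorem two_unique {x y : M} (hx : Two x) (hy : Two y) (hxy : φ x = φ y) : x = y := by
  obtain ⟨n, hn⟩ := hx
  obtain ⟨m, hm⟩ := hy
  exact h.lift_unique hn hm hxy

include h in
theorem two_comm_ker {x d : M} (hx : Two x) (hd : d ∈ φ.ker) : x * d = d * x := by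
  obtain ⟨n, hn⟩ := hx
  exact h.comm x n hn d hd

open Classical in
/-- the 2-element above a 2-element of `K` -/
noncomputable def lf (x : K) : M := if hx : Two x then (h.exists_lf hx).choose else 1

theorem φ_lf {x : K} (hx : Two x) : φ (h.lf x) = x := by
  unfold lf
  rw [dif_pos hx]
  exact (h.exists_lf hx).choose_spec.1

theorem two_lf (x : K) : Two (h.lf x) := by
  unfold lf
  split_ifs with hx
  · exact (h.exists_lf hx).choose_spec.2
  · exact two_one

theorem lf_eq {x : K} {y : M} (hy : Two y) (hyx : φ y = x) : h.lf x = y := by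
  have hx : Two x := by rw [← hyx]; exact hy.map φ
  exact h.two_unique (h.two_lf x) hy (by rw [h.φ_lf hx, hyx])

theorem lf_φ {y : M} (hy : Two y) : h.lf (φ y) = y := h.lf_eq hy rfl

theorem lf_one : h.lf 1 = 1 := h.lf_eq two_one (map_one φ)

theorem lf_inj {x y : K} (hx : Two x) (hy : Two y) (hxy : h.lf x = h.lf y) : x = y := by
  rw [← h.φ_lf hx, ← h.φ_lf hy, hxy]

theorem conj_lf (g : M) {x : K} (hx : Two x) : g * h.lf x * g⁻¹ = h.lf (φ g * x * (φ g)⁻¹) := by
  symm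
  apply h.lf_eq ((h.two_lf x).conj g)
  rw [map_mul, map_mul, map_inv, h.φ_lf hx]

theorem lf_inv {x : K} (hx : Two x) : h.lf x⁻¹ = (h.lf x)⁻¹ :=
  h.lf_eq (h.two_lf x).inv (by rw [map_inv, h.φ_lf hx])

/-- an element of `M` commutes with a lift as soon as the images commute -/
theorem comm_lf {g : M} {x : K} (hx : Two x) (hc : φ g * x = x * φ g) : g * h.lf x = h.lf x * g := by
  have h1 := h.conj_lf g hx
  rw [hc, mul_inv_cancel_right] at h1
  exact mul_inv_eq_iff_eq_mul.1 h1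

theorem comm_of_comm_lf {g : M} {x : K} (hx : Two x) (hc : g * h.lf x = h.lf x * g) : φ g * x = x * φ g := by
  have h1 := congrArg φ hc
  rwa [map_mul, map_mul, h.φ_lf hx] at h1

theorem lf_mul_of_comm {x y : K} (hx : Two x) (hy : Two y) (hc : x * y = y * x) :
    h.lf (x * y) = h.lf x * h.lf y := by
  apply h.lf_eq
  · apply (h.two_lf x).mul (h.two_lf y)
    exact h.comm_lf hy (by rw [h.φ_lf hx, hc])
  · rw [map_mul, h.φ_lf hx, h.φ_lf hy]

theorem lf_mul [Finite M] {P : Subgroup K} (hP : IsPGroup 2 P) {x y : K} (hx : x ∈ P) (hy : y ∈ P) :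
    h.lf (x * y) = h.lf x * h.lf y := by
  obtain ⟨P', hP', h1, h2, h3⟩ := h.exists_lsub hP
  have key : ∀ x ∈ P, h.lf x ∈ P' := by
    intro x hx
    obtain ⟨n, hn⟩ := h.two_lf x
    exact h2 _ n hn (by rw [h.φ_lf (two_of_isPGroup hP hx)]; exact hx)
  apply h.lf_eq
  · exact two_of_isPGroup hP' (mul_mem (key x hx) (key y hy))
  · rw [map_mul, h.φ_lf (two_of_isPGroup hP hx), h.φ_lf (two_of_isPGroup hP hy)]

theorem lf_two_sq {x : K} (hx : x * x = 1) : h.lf x * h.lf x = 1 := by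
  rw [← h.lf_mul_of_comm (two_of_sq hx) (two_of_sq hx) rfl, hx, h.lf_one]

/-- every element above a 2-element `x` is `lf x * d` -/
theorem exists_ker {g : M} (hx : Two (φ g)) : ∃ d ∈ φ.ker, g = h.lf (φ g) * d := by
  refine ⟨(h.lf (φ g))⁻¹ * g, ?_, by group⟩
  rw [MonoidHom.mem_ker, map_mul, map_inv, h.φ_lf hx, inv_mul_cancel]

end OCov

end Cfsg.Agent.RuC
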