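import Cfsg.Agent.RuC.Sig
import Cfsg.Agent.RuC.NorD2

/-!
# The local data of `G`, and: an element of the class of `v'` normalising `Z'` lies in `Q'`
-/

set_option autoImplicit false
set_option Elab.async false

namespace Cfsg.Agent.RuC

open Subgroup Cfsg.Agent.RuB Cfsg.Agent.RuB.Core Cfsg.Agent.RuB.NormZ Cfsg.Agent.RuB.Local
open Cfsg.Agent.Ru127.Form Cfsg.Agent.Ru127.Inst Cfsg.Agent.RuC.NorD2

/-- conjugation of coordinates -/
theorem coordQ_cj {W F : Type} [AddCommGroup W] [AddCommGroup F] {G : Type*} [Group G] {D : Set G} {Y Q : Subgroup G}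
    {R : RuForm W F} {π : G → W} {ζ : F → G} (c : CoordQ D Y Q R π ζ) (hD : ∀ d ∈ D, ∀ g, g * d * g⁻¹ ∈ D) (g : G) :
    CoordQ D (cj g Y) (cj g Q) R (fun x => π (g⁻¹ * x * g)) (fun a => g * ζ a * g⁻¹) where
  mem := by
    intro x
    rw [mem_cj, c.mem, Local.mem_centralizer_cj]
    constructor
    · rintro ⟨h1, h2⟩
      refine ⟨?_, h2⟩
      have := h1.conj g
      have e : g * (g⁻¹ * x * g) * g⁻¹ = x := by group
      rwa [e] at this
    · rintro ⟨h1, h2⟩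
      exact ⟨h1.conj' g, h2⟩
  π_mul := by
    intro x hx y hy
    rw [mem_cj] at hx hy
    rw [← c.π_mul _ hx _ hy]
    congr 1
    group
  π_surj := by
    intro w
    obtain ⟨x, hx, rfl⟩ := c.π_surj w
    have e : g⁻¹ * (g * x * g⁻¹) * g = x := by group
    refine ⟨g * x * g⁻¹, ?_, ?_⟩
    · rw [mem_cj, e]; exact hx
    · show π (g⁻¹ * (g * x * g⁻¹) * g) = π x
      rw [e]
  π_ker := by
    intro x hx
    rw [mem_cj] at hx ⊢
    exact c.π_ker _ hx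
  le := by
    intro x hx
    rw [mem_cj] at hx ⊢
    exact c.le hx
  ζ_add := by
    intro a b
    show g * ζ (a + b) * g⁻¹ = (g * ζ a * g⁻¹) * (g * ζ b * g⁻¹)
    rw [c.ζ_add]
    group
  ζ_inj := by
    intro a b hab
    exact c.ζ_inj (mul_left_cancel (mul_right_cancel hab))
  ζ_range := by
    intro y
    rw [mem_cj, c.ζ_range]
    constructor
    · rintro ⟨a, ha⟩
      exact ⟨a, by show g * ζ a * g⁻¹ = y; rw [ha]; group⟩
    · rintro ⟨a, ha⟩
      exact ⟨a, by rw [← ha]; group⟩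
  sq := by
    intro x hx
    rw [mem_cj] at hx
    have h1 := c.sq _ hx
    show x * x = g * ζ (R.q (π (g⁻¹ * x * g))) * g⁻¹
    rw [← h1]
    group
  comm := by
    intro x hx y hy
    rw [mem_cj] at hx hy
    have h1 := c.comm _ hx _ hy
    show x⁻¹ * y⁻¹ * x * y = g * ζ (R.b (π (g⁻¹ * x * g)) (π (g⁻¹ * y * g))) * g⁻¹
    rw [← h1]
    group
  D_iff := by
    intro x hx
    rw [mem_cj] at hx
    rw [← c.D_iff _ hx]
    constructor
    · intro h
      have := hD _ h g⁻¹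
      rwa [inv_inv] at this
    · intro h
      have := hD _ h g
      have e : g * (g⁻¹ * x * g) * g⁻¹ = x := by group
      rwa [e] at this

namespace Cov

variable {G K : Type*} [Group G] [Group K] {C : Core K} {M : Subgroup G} {φ : M →* K} (h : Cov C M φ)

theorem mem_centralizer_ZG {x : G} : x ∈ centralizer (h.ZG : Set G) ↔ x ∈ h.cz' := by
  rw [mem_centralizer_iff, mem_cz']
  constructor
  · intro hx b
    exact (hx _ (h.z'_mem_ZG b)).symm
  · rintro hx _ ⟨b, rfl⟩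
    exact (hx b).symm

/-- the conjugates of `Z'` -/
def ZZG : Set (Subgroup G) := {Y | ∃ g, Y = cj g h.ZG}

variable [Finite G] [Finite K] {K0 : Coord C} (cd : Cd C K0)

include cd

/-- `Q'` is the set of 2-elements of `C_G(Z')` -/
theorem mem_QG_iff {x : G} : x ∈ h.QG K0 ↔ Two x ∧ x ∈ centralizer (h.ZG : Set G) := by
  rw [h.mem_centralizer_ZG]
  constructor
  · intro hx
    exact ⟨h.two_QG K0 hx, fun b => h.QG_le_cz' K0 hx b⟩
  · rintro ⟨hx, hxc⟩
    obtain ⟨q, hq, d, hd, rfl⟩ := h.cent_Z' K0 cd.μ hxc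
    have hqd : q * d = d * q := by
      obtain ⟨r, hr, rfl⟩ := hq
      exact h.ll_DG hd
    have h1 : Two d := by
      have h2 : Two (q⁻¹ * (q * d)) := (h.two_QG K0 hq).inv.mul hx (by
        rw [inv_mul_cancel_left, hqd, mul_inv_cancel_right])
      rwa [inv_mul_cancel_left] at h2
    have h3 : d = 1 := h1.eq_one h.DG_odd (pow_card_mem hd)
    rw [h3, mul_one]
    exact hq

/-- coordinates on `Q'` -/
theorem coordQ (H2 : ∀ g, (∀ d, d ∈ h.DG ↔ g * d * g⁻¹ ∈ h.DG) → g ∈ M) :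
    CoordQ h.DS h.ZG (h.QG K0) R8 (fun x => K0.π (h.φG x)) h.z' where
  mem := fun _ => h.mem_QG_iff cd
  π_mul := (h.qc cd H2).π_mul
  π_surj := (h.qc cd H2).π_surj
  π_ker := (h.qc cd H2).π_ker
  le := (h.qc cd H2).le
  ζ_add := h.z'_add
  ζ_inj := fun _ _ hab => h.z'_inj hab
  ζ_range := by
    intro y
    constructor
    · rintro ⟨b, rfl⟩
      exact ⟨b, rfl⟩
    · rintro ⟨b, rfl⟩
      exact h.z'_mem_ZG b
  sq := by
    rintro _ ⟨q, hq, rfl⟩
    rw [← h.ll_mul (isPGroup_QQ K0) hq hq, h.φG_ll (two_QQ K0 hq)]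
    exact congrArg h.ll (cd.co.sq q ((mem_cent_iff K0 cd.μ).2 hq))
  comm := by
    rintro _ ⟨q, hq, rfl⟩ _ ⟨r, hr, rfl⟩
    rw [h.φG_ll (two_QQ K0 hq), h.φG_ll (two_QQ K0 hr), ← h.ll_inv (two_QQ K0 hq), ← h.ll_inv (two_QQ K0 hr),
      ← h.ll_mul (isPGroup_QQ K0) (inv_mem hq) (inv_mem hr),
      ← h.ll_mul (isPGroup_QQ K0) (mul_mem (inv_mem hq) (inv_mem hr)) hq,
      ← h.ll_mul (isPGroup_QQ K0) (mul_mem (mul_mem (inv_mem hq) (inv_mem hr)) hq) hr]
    exact congrArg h.ll (cd.co.comm q ((mem_cent_iff K0 cd.μ).2 hq) r ((mem_cent_iff K0 cd.μ).2 hr))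
  D_iff := (h.qc cd H2).T_iff

/-- the local data of `G` -/
theorem localQ (H2 : ∀ g, (∀ d, d ∈ h.DG ↔ g * d * g⁻¹ ∈ h.DG) → g ∈ M) : LocalQ h.DS h.ZZG R8 where
  D_sq := fun _ hd => h.DS_sq hd
  coord := by
    rintro _ ⟨g, rfl⟩
    exact ⟨_, _, _, coordQ_cj (h.coordQ cd H2) (fun d hd g => h.DS_conj hd g) g⟩
  H2 := by
    rintro _ ⟨k, a, ha, rfl⟩ _ ⟨g, rfl⟩ z hz hz1 hc
    rw [mem_cj] at hz
    obtain ⟨b, hb⟩ := hz
    have hz' : z = g * h.z' b * g⁻¹ := by rw [← hb]; group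
    have hb0 : b ≠ 0 := by
      rintro rfl
      apply hz1
      rw [hz', h.z'_zero, mul_one, mul_inv_cancel]
    have hc' : k * h.v' a * k⁻¹ * z = z * (k * h.v' a * k⁻¹) := hc
    obtain ⟨c, hc1, hc2⟩ := h.htwo K0 ha hb0 (g := g⁻¹ * k) (by
      calc (g⁻¹ * k) * h.v' a * (g⁻¹ * k)⁻¹ * h.z' b = g⁻¹ * (k * h.v' a * k⁻¹ * (g * h.z' b * g⁻¹)) * g := by
            group
        _ = g⁻¹ * ((g * h.z' b * g⁻¹) * (k * h.v' a * k⁻¹)) * g := by rw [← hz', hc']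
        _ = _ := by group)
    have hd : k * h.v' a * k⁻¹ = (g * c) * h.v' a * (g * c)⁻¹ := by
      calc k * h.v' a * k⁻¹ = g * ((g⁻¹ * k) * h.v' a * (g⁻¹ * k)⁻¹) * g⁻¹ := by group
        _ = g * (c * h.v' a * c⁻¹) * g⁻¹ := by rw [hc2]
        _ = _ := by group
    have hzc : z = (g * c) * h.z' b * (g * c)⁻¹ := by
      calc z = g * h.z' b * g⁻¹ := hz'
        _ = g * (h.z' b * c) * c⁻¹ * g⁻¹ := by group
        _ = g * (c * h.z' b) * c⁻¹ * g⁻¹ := by rw [hc1]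
        _ = _ := by group
    refine ⟨cj (g * c) h.ZG, ⟨_, rfl⟩, ?_, ?_, ?_⟩
    · rw [mem_cj, hzc]
      exact ⟨b, by group⟩
    · rw [hd, Local.mem_centralizer_cj]
      have e : (g * c)⁻¹ * (g * c * h.v' a * (g * c)⁻¹) * (g * c) = h.v' a := by group
      rw [e, h.mem_centralizer_ZG]
      exact fun b => h.v'_z' a b
    · intro x hx hxd hxz
      rw [Local.mem_centralizer_cj]
      refine ((h.mem_QG_iff cd).1 (h.htwo' K0 ha hb0 (hx.conj' (g * c)) ?_ ?_)).2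
      · have h1 : x * ((g * c) * h.v' a * (g * c)⁻¹) = ((g * c) * h.v' a * (g * c)⁻¹) * x := by
          rw [← hd]; exact hxd
        calc (g * c)⁻¹ * x * (g * c) * h.v' a = (g * c)⁻¹ * (x * ((g * c) * h.v' a * (g * c)⁻¹)) * (g * c) := by group
          _ = (g * c)⁻¹ * (((g * c) * h.v' a * (g * c)⁻¹) * x) * (g * c) := by rw [h1]
          _ = _ := by group
      · have h1 : x * ((g * c) * h.z' b * (g * c)⁻¹) = ((g * c) * h.z' b * (g * c)⁻¹) * x := by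
          rw [← hzc]; exact hxz
        calc (g * c)⁻¹ * x * (g * c) * h.z' b = (g * c)⁻¹ * (x * ((g * c) * h.z' b * (g * c)⁻¹)) * (g * c) := by group
          _ = (g * c)⁻¹ * (((g * c) * h.z' b * (g * c)⁻¹) * x) * (g * c) := by rw [h1]
          _ = _ := by group

/-- **[E3]** an element of the class of `v'` normalising `Z'` lies in `Q'` -/
theorem D_nor (H2 : ∀ g, (∀ d, d ∈ h.DG ↔ g * d * g⁻¹ ∈ h.DG) → g ∈ M) {t : G} (ht : t ∈ h.DS)
    (htn : cj t h.ZG = h.ZG) : t ∈ h.QG K0 := by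
  have h1 := NorD2.D_nor (h.localQ cd H2) ht (Y0 := h.ZG) ⟨1, (Ru127.Form.cj_one _).symm⟩ (mem_nor.2 htn)
  exact (h.mem_QG_iff cd).2 ⟨two_of_sq (h.DS_sq ht), h1⟩

/-- the same for the conjugates of `Z'` -/
theorem D_nor_cj (H2 : ∀ g, (∀ d, d ∈ h.DG ↔ g * d * g⁻¹ ∈ h.DG) → g ∈ M) {t g : G} (ht : t ∈ h.DS)
    (htn : cj t (cj g h.ZG) = cj g h.ZG) : t ∈ cj g (h.QG K0) := by
  rw [mem_cj]
  apply h.D_nor cd H2
  · have := h.DS_conj ht g⁻¹
    rwa [inv_inv] at this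
  · have e : g⁻¹ * t * g = g⁻¹ * (t * g) := by group
    rw [e, Ru127.Form.cj_mul, Ru127.Form.cj_mul, htn, Ru127.Form.cj_inv_cj]

end Cov

end Cfsg.Agent.RuC
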