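import Cfsg.Agent.RuC.Cov
import Cfsg.Agent.Ru127.Sg

/-!
# The induction of the core argument for the Rudvalis group
-/

set_option autoImplicit false

namespace Cfsg.Agent.RuC.Skel

open Subgroup Cfsg.Agent.RuB

universe u v

theorem card_lt_of_ne_top {G : Type*} [Group G] [Finite G] {H : Subgroup G} (hH : H ≠ ⊤) :
    Nat.card H < Nat.card G := by
  by_contra hge
  exact hH ((card_eq_iff_eq_top H).1 (le_antisymm (card_le_card_group H) (not_lt.1 hge)))

theorem card_quot_lt {G : Type*} [Group G] [Finite G] {N : Subgroup G} (hN : N ≠ ⊥) :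
    Nat.card (G ⧸ N) < Nat.card G := by
  rw [← index_eq_card, ← N.card_mul_index]
  have h1 : 1 < Nat.card N := by
    rw [Finite.one_lt_card_iff_nontrivial, nontrivial_iff_ne_bot]
    exact hN
  have h2 : 0 < N.index := Nat.pos_of_ne_zero index_ne_zero_of_finite
  nlinarith

/-- the induction: `M = ⊤` -/
theorem eq_top {K : Type v} [Group K] [Finite K] [IsSimpleGroup K] {C : Core K}
    (trans : ∀ (G : Type u) [Group G] [Finite G] (ι : K →* G), Function.Injective ι →
      (∀ a, a ≠ 0 → ∀ g, g * ι (C.v a) = ι (C.v a) * g → ∃ k, ι k = g) → ∃ C' : Core G, Ru127.Sg.Rel C')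
    (hcard : ∀ (G' : Type u) [Group G'] [Finite G'] (C' : Core G'), Ru127.Sg.Rel C' → Nat.card G' = Nat.card K)
    (kill : ∀ (G : Type u) [Group G] [Finite G] (M : Subgroup G) (φ : M →* K), Cov C M φ →
      (∀ g, (∀ d, d ∈ φ.ker.map M.subtype ↔ g * d * g⁻¹ ∈ φ.ker.map M.subtype) → g ∈ M) →
      (∀ x ∈ φ.ker.map M.subtype, x ≠ 1 → ∀ g, g * x = x * g → g ∈ M) → M = ⊤) :
    ∀ (G : Type u) [Group G] [Finite G] (M : Subgroup G) (φ : M →* K), Cov C M φ → M = ⊤ := by
  suffices H : ∀ (n : ℕ) (G : Type u) [Group G] [Finite G] (M : Subgroup G) (φ : M →* K), Nat.card G = n →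
      Cov C M φ → M = ⊤ by
    intro G _ _ M φ h
    exact H _ G M φ rfl h
  intro n
  induction n using Nat.strong_induction_on with
  | _ n ih =>
    intro G _ _ M φ hn h
    by_cases hA : φ.ker = ⊥
    · -- the kernel is trivial
      have hinj : Function.Injective φ := (MonoidHom.ker_eq_bot_iff φ).1 hA
      let e : M ≃* K := MulEquiv.ofBijective φ ⟨hinj, h.surj⟩
      have he : ∀ x, e x = φ x := fun x => rfl
      obtain ⟨C', hC'⟩ := trans G (M.subtype.comp e.symm.toMonoidHom) (by
          intro x y hxy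
          have h1 : ((e.symm x : M) : G) = ((e.symm y : M) : G) := hxy
          exact e.symm.injective (Subtype.ext h1)) (by
          intro a ha g hg
          have h1 : e.symm (C.v a) * e.symm (C.v a) = 1 := by rw [← map_mul, C.v_sq, map_one]
          have h2 : φ (e.symm (C.v a)) = C.v a := by rw [← he, e.apply_symm_apply]
          have h3 : g ∈ M := h.cent _ h1 a ha h2 g hg
          refine ⟨e ⟨g, h3⟩, ?_⟩
          show ((e.symm (e ⟨g, h3⟩) : M) : G) = g
          rw [e.symm_apply_apply])
      have h1 := hcard G C' hC'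
      rw [← Nat.card_congr e.toEquiv] at h1
      exact (card_eq_iff_eq_top M).1 h1.symm
    by_cases hB : ∃ N : Subgroup G, N.Normal ∧ N ≠ ⊥ ∧ ∀ x ∈ N, ∃ hx : x ∈ M, (⟨x, hx⟩ : M) ∈ φ.ker
    · obtain ⟨N, hNn, hN1, hN⟩ := hB
      obtain ⟨φ', h', htop⟩ := h.quot hN
      exact htop (ih _ (by rw [← hn]; exact card_quot_lt hN1) _ _ φ' rfl h')
    -- subgroups containing the elements commuting with the kernel
    have key : ∀ H : Subgroup G, H ≠ ⊤ → (∀ y : M, (∀ d ∈ φ.ker, y * d = d * y) → (y : G) ∈ H) → H ≤ M := by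
      intro H hH hyH
      have h1 := ih _ (by rw [← hn]; exact card_lt_of_ne_top hH) H (M.subgroupOf H) _ rfl (h.sub hyH)
      rwa [subgroupOf_eq_top] at h1
    have hmem : ∀ d, d ∈ φ.ker.map M.subtype ↔ ∃ hd : d ∈ M, (⟨d, hd⟩ : M) ∈ φ.ker := by
      intro d
      constructor
      · rintro ⟨d, hd, rfl⟩
        exact ⟨d.2, hd⟩
      · rintro ⟨hd, hd'⟩
        exact ⟨⟨d, hd⟩, hd', rfl⟩
    refine kill G M φ h ?_ ?_
    · intro g hg
      have h1 : normalizer ((φ.ker.map M.subtype : Subgroup G) : Set G) ≤ M := by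
        apply key
        · intro htop
          have hn : (φ.ker.map M.subtype).Normal := normalizer_eq_top_iff.1 htop
          refine hB ⟨_, hn, ?_, fun x hx => (hmem x).1 hx⟩
          intro hb
          apply hA
          rwa [Subgroup.map_eq_bot_iff_of_injective _ M.subtype_injective] at hb
        · intro y hy
          apply centralizer_le_normalizer
          rw [mem_centralizer_iff]
          rintro _ ⟨d, hd, rfl⟩
          exact (congrArg Subtype.val (hy d hd)).symm
      exact h1 (mem_normalizer_iff.2 hg)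
    · intro x hx hx1 g hg
      have h1 : centralizer {x} ≤ M := by
        apply key
        · intro htop
          have hxc : ∀ g : G, g * x = x * g := fun g =>
            mem_centralizer_singleton_iff.1 (by rw [htop]; exact mem_top _)
          have hn : (zpowers x).Normal := by
            refine ⟨fun y hy g => ?_⟩
            obtain ⟨i, rfl⟩ := mem_zpowers_iff.1 hy
            have hc : Commute g x := hxc g
            rw [(hc.zpow_right i).eq, mul_inv_cancel_right]
            exact hy
          refine hB ⟨_, hn, ?_, fun y hy => (hmem y).1 (zpowers_le.2 hx hy)⟩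
          rw [Ne, zpowers_eq_bot]
          exact hx1
        · intro y hy
          obtain ⟨hxM, hxk⟩ := (hmem x).1 hx
          exact mem_centralizer_singleton_iff.2 (congrArg Subtype.val (hy _ hxk))
      exact h1 (mem_centralizer_singleton_iff.2 hg)

end Cfsg.Agent.RuC.Skel
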