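import Cfsg.Agent.Ru127.Sg
import Cfsg.Agent.RuLat.Main
import Cfsg.Agent.SporadicB.RuSimple

/-!
# Transport of a `Core` along an injective homomorphism; order and simplicity of the Rudvalis group
-/

set_option autoImplicit false

namespace Cfsg.Agent.RuC.Trans

open Cfsg.Agent.RuB

variable {K G : Type*} [Group K] [Group G]

/-- the transported core -/
noncomputable def core (C : Core K) (ι : K →* G) (hι : Function.Injective ι)
    (hc : ∀ a, a ≠ 0 → ∀ g, g * ι (C.v a) = ι (C.v a) * g → ∃ k, ι k = g) : Core G where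
  L := C.L.map ι
  R := C.R.map (C.L.equivMapOfInjective ι hι)
  v a := ι (C.v a)
  v_add a b := by rw [C.v_add, map_mul]
  v_comm := by
    rintro a _ ⟨l, hl, rfl⟩
    rw [← map_mul, ← map_mul, C.v_comm a l hl]
  v_notin := by
    rintro a ⟨l, hl, h⟩
    refine C.v_notin a ?_
    rw [← hι h]
    exact hl
  cent := by
    intro a ha g hg
    obtain ⟨k, rfl⟩ := hc a ha g hg
    obtain ⟨b, l, hl, rfl⟩ := C.cent a ha k (hι (by rw [map_mul, map_mul, hg]))
    exact ⟨b, ι l, ⟨l, hl, rfl⟩, map_mul _ _ _⟩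
  grow := by
    intro c
    obtain ⟨x, h1, h2⟩ := C.grow c
    refine ⟨ι x, fun b => ?_, fun a => ?_⟩
    · have h3 : (((C.R.map (C.L.equivMapOfInjective ι hι)).u 0 b : C.L.map ι) : G) = ι (C.R.u 0 b : K) := rfl
      rw [h3, ← map_mul, ← map_mul, h1]
    · have h3 : (((C.R.map (C.L.equivMapOfInjective ι hι)).u 0 (c * emb a) : C.L.map ι) : G) =
          ι (C.R.u 0 (c * emb a) : K) := rfl
      have h4 := congrArg ι (h2 a)
      rw [map_mul, map_mul, map_mul, map_inv] at h4
      rw [h3]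
      exact h4

theorem exists_core (C : Core K) (hr : Cfsg.Agent.Ru127.Sg.Rel C) (ι : K →* G) (hι : Function.Injective ι)
    (hc : ∀ a, a ≠ 0 → ∀ g, g * ι (C.v a) = ι (C.v a) * g → ∃ k, ι k = g) :
    ∃ C' : Core G, Cfsg.Agent.Ru127.Sg.Rel C' := by
  refine ⟨core C ι hι hc, ?_⟩
  have h1 : (C.R.w : K) * C.U 1 1 * (C.R.w : K) * (C.U 1 1)⁻¹ = C.z 1 * (C.R.w : K) := hr
  have h2 := congrArg ι h1
  rw [map_mul, map_mul, map_mul, map_mul, map_inv] at h2
  exact h2

/-- the order of the Rudvalis group -/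
theorem natCard_of_isoRu (h : Cfsg.Spor.IsoRu K) : Nat.card K = 145926144000 := by
  obtain ⟨e⟩ := h
  have h1 := Cfsg.Agent.SporadicB.RuOrder.card_H
  rw [Nat.card_congr (e.trans Cfsg.Agent.RuLat.Main.equiv).toEquiv, h1]

/-- the Rudvalis group is simple -/
theorem isSimple_of_isoRu (h : Cfsg.Spor.IsoRu K) : IsSimpleGroup K := by
  obtain ⟨e⟩ := h
  have := Cfsg.Agent.SporadicB.RuSimple.isSimpleGroup_H
  exact (e.trans Cfsg.Agent.RuLat.Main.equiv).isSimpleGroup

/-- the Rudvalis group is not abelian -/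
theorem not_comm_of_core (C : Core K) : ¬ ∀ a b : K, a * b = b * a := by
  intro h
  have h1 := C.R.w_mul_d (Units.mk0 K8.al (by decide +kernel))
  have h2 : (C.R.w : K) * (C.R.d (Units.mk0 K8.al (by decide +kernel)) : K) =
      (C.R.d (Units.mk0 K8.al (by decide +kernel))⁻¹ : K) * (C.R.w : K) := congrArg Subtype.val h1
  rw [h (C.R.w : K)] at h2
  have h3 := C.R.d_inj (Subtype.ext (mul_right_cancel h2))
  have h4 := congrArg Units.val h3
  revert h4
  decide +kernel

end Cfsg.Agent.RuC.Trans
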