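import Cfsg.Agent.RuC.Kill
import Cfsg.Agent.RuC.DNor
import Cfsg.Agent.RuC.Skel
import Cfsg.Agent.RuC.Trans

/-!
# The core argument for the Rudvalis group: `M = ⊤`
-/

set_option autoImplicit false

namespace Cfsg.Agent.RuC

open Subgroup Cfsg.Agent.RuB

universe u

/-- **the core argument** -/
theorem Cov.kill {G K : Type*} [Group G] [Group K] [Finite G] [Finite K] [IsSimpleGroup K] {C : Core K}
    {M : Subgroup G} {φ : M →* K} (h : Cov C M φ)
    (H2 : ∀ g, (∀ d, d ∈ φ.ker.map M.subtype ↔ g * d * g⁻¹ ∈ φ.ker.map M.subtype) → g ∈ M)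
    (H3 : ∀ x ∈ φ.ker.map M.subtype, x ≠ 1 → ∀ g, g * x = x * g → g ∈ M) : M = ⊤ := by
  obtain ⟨K0, cd⟩ := exists_cd C
  exact h.kill_of cd H2 H3 (fun t ht htn => h.D_nor cd H2 ht htn)

/-- a covering of a group with a core satisfying the relation is everything, given the
identification of such groups -/
theorem eq_top {K : Type u} [Group K] [Finite K] (C : Core K) (hr : Ru127.Sg.Rel C)
    (hid : ∀ (G : Type u) [Group G] [Finite G] (C : Core G), Ru127.Sg.Rel C → Cfsg.Spor.IsoRu G)
    {G : Type u} [Group G] [Finite G] {M : Subgroup G} {φ : M →* K} (h : Cov C M φ) : M = ⊤ := by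
  have hK := hid K C hr
  haveI := Trans.isSimple_of_isoRu hK
  refine Skel.eq_top (K := K) (C := C) (fun G _ _ ι hι hc => Trans.exists_core C hr ι hι hc) ?_
    (fun G _ _ M φ h H2 H3 => h.kill H2 H3) G M φ h
  intro G' _ _ C' hC'
  rw [Trans.natCard_of_isoRu (hid G' C' hC'), Trans.natCard_of_isoRu hK]

end Cfsg.Agent.RuC
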