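import Cfsg.Agent.RuC.CGZ2
import Cfsg.Agent.RuB.Core

/-!
# Coverings of a `Core` group inside a larger group

`Cov C M φ`: `M ≤ G`, `φ : M →* K` surjective with kernel of odd order centralised by the 2-elements of `M`, and
`C_G(t) ≤ M` for the involutions `t ∈ M` lifting the `v a`.
-/

set_option autoImplicit false
set_option Elab.async false

namespace Cfsg.Agent.RuC

open Subgroup Cfsg.Agent.RuB

/-- the covering situation -/
structure Cov {G K : Type*} [Group G] [Group K] (C : Core K) (M : Subgroup G) (φ : M →* K) : Prop where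
  surj : Function.Surjective φ
  odd : Odd (Nat.card φ.ker)
  comm : ∀ x : M, ∀ n : ℕ, x ^ (2 ^ n) = 1 → ∀ d ∈ φ.ker, x * d = d * x
  cent : ∀ t : M, t * t = 1 → ∀ a, a ≠ 0 → φ t = C.v a → ∀ g : G, g * t = t * g → g ∈ M

/-- a 2-element of odd order is trivial -/
theorem two_odd {X : Type*} [Group X] {x : X} {n m : ℕ} (hn : x ^ (2 ^ n) = 1) (hm : Odd m) (hx : x ^ m = 1) :
    x = 1 := by
  have h1 : orderOf x ∣ 2 ^ n := orderOf_dvd_of_pow_eq_one hn
  have h2 : orderOf x ∣ m := orderOf_dvd_of_pow_eq_one hx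
  have h3 : Nat.Coprime (2 ^ n) m := Nat.Coprime.pow_left _ (Nat.coprime_two_left.2 hm)
  exact orderOf_eq_one_iff.1 (Nat.eq_one_of_dvd_coprimes h3 h1 h2)

theorem pow_two_mul {X : Type*} [Group X] {x y : X} {n m : ℕ} (hx : x ^ (2 ^ n) = 1) (hy : y ^ (2 ^ m) = 1)
    (hc : x * y = y * x) : (x * y) ^ (2 ^ (n + m)) = 1 := by
  have hcc : Commute x y := hc
  rw [hcc.mul_pow, pow_add, pow_mul, hx, one_pow, one_mul, mul_comm, pow_mul, hy, one_pow]

theorem pow_card_mem {X : Type*} [Group X] {S : Subgroup X} {x : X} (hx : x ∈ S) : x ^ (Nat.card S) = 1 := by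
  have := pow_card_eq_one' (x := (⟨x, hx⟩ : S))
  exact congrArg Subtype.val this

/-- the 2-part of an element whose `2 ^ n`-th power has odd order -/
theorem exists_two_part {X : Type*} [Group X] {x : X} {n m : ℕ} (hm : Odd m) (hx : (x ^ (2 ^ n)) ^ m = 1) :
    ∃ k : ℕ, (x ^ k) ^ (2 ^ n) = 1 ∧ ∀ {Y : Type _} [Group Y] (y : Y), y ^ (2 ^ n) = 1 → y ^ k = y := by
  have hcop : Nat.Coprime m (2 ^ n) := Nat.Coprime.pow_right _ (Nat.coprime_two_right.2 hm)
  have h1 : m ^ Nat.totient (2 ^ n) ≡ 1 [MOD 2 ^ n] := Nat.ModEq.pow_totient hcop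
  have h2 : 0 < Nat.totient (2 ^ n) := Nat.totient_pos.2 (by positivity)
  obtain ⟨t, ht⟩ := Nat.exists_eq_succ_of_ne_zero h2.ne'
  rw [ht, Nat.succ_eq_add_one] at h1
  refine ⟨m ^ (t + 1), ?_, ?_⟩
  · rw [← pow_mul, mul_comm, pow_mul, pow_succ' m, pow_mul, hx, one_pow]
  · intro Y _ y hy
    have h3 : m ^ (t + 1) ≡ 1 [MOD orderOf y] := h1.of_dvd (orderOf_dvd_of_pow_eq_one hy)
    have h4 := pow_eq_pow_iff_modEq.2 h3
    rw [h4, pow_one]

/-- coverings with odd kernel centralised by the 2-elements -/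
structure OCov {M K : Type*} [Group M] [Group K] (φ : M →* K) : Prop where
  surj : Function.Surjective φ
  odd : Odd (Nat.card φ.ker)
  comm : ∀ x : M, ∀ n : ℕ, x ^ (2 ^ n) = 1 → ∀ d ∈ φ.ker, x * d = d * x

namespace OCov

variable {M K : Type*} [Group M] [Group K] {φ : M →* K} (h : OCov φ)

include h

theorem exists_lift {x : K} {n : ℕ} (hx : x ^ (2 ^ n) = 1) : ∃ y : M, φ y = x ∧ y ^ (2 ^ n) = 1 := by
  obtain ⟨y, rfl⟩ := h.surj x
  have hk : y ^ (2 ^ n) ∈ φ.ker := by rw [MonoidHom.mem_ker, map_pow, hx]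
  obtain ⟨k, hk1, hk2⟩ := exists_two_part h.odd (pow_card_mem hk)
  exact ⟨y ^ k, by rw [map_pow, hk2 _ hx], hk1⟩

theorem eq_one_of {x : M} {n : ℕ} (hx : x ^ (2 ^ n) = 1) (hφ : φ x = 1) : x = 1 :=
  two_odd hx h.odd (pow_card_mem (MonoidHom.mem_ker.2 hφ))

theorem lift_unique {x y : M} {n m : ℕ} (hx : x ^ (2 ^ n) = 1) (hy : y ^ (2 ^ m) = 1) (hxy : φ x = φ y) :
    x = y := by
  have hd : φ (x⁻¹ * y) = 1 := by rw [map_mul, map_inv, hxy, inv_mul_cancel]
  have hc := h.comm x n hx _ (MonoidHom.mem_ker.2 hd)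
  have h1 : y = x⁻¹ * y * x := by
    calc y = x * (x⁻¹ * y) := by group
      _ = _ := hc
  have hc2 : x⁻¹ * y = y * x⁻¹ := by
    calc x⁻¹ * y = (x⁻¹ * y * x) * x⁻¹ := by group
      _ = y * x⁻¹ := by rw [← h1]
  have h2 : (x⁻¹ * y) ^ (2 ^ (n + m)) = 1 := pow_two_mul (by rw [inv_pow, hx, inv_one]) hy hc2
  exact inv_mul_eq_one.1 (h.eq_one_of h2 hd)

theorem lift_conj {g x y : M} {n m : ℕ} (hx : x ^ (2 ^ n) = 1) (hy : y ^ (2 ^ m) = 1)
    (hxy : φ g * φ x * (φ g)⁻¹ = φ y) : g * x * g⁻¹ = y :=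
  h.lift_unique (n := n) (m := m) (by rw [conj_pow, hx, mul_one, mul_inv_cancel]) hy
    (by rw [map_mul, map_mul, map_inv, hxy])

theorem lift_comm {g x : M} {n : ℕ} (hx : x ^ (2 ^ n) = 1) (hxy : φ g * φ x = φ x * φ g) : g * x = x * g := by
  have := h.lift_conj hx hx (by rw [hxy, mul_inv_cancel_right])
  exact mul_inv_eq_iff_eq_mul.1 this

/-- the lift of a 2-subgroup -/
theorem exists_lsub [Finite M] {P : Subgroup K} (hP : IsPGroup 2 P) :
    ∃ P' : Subgroup M, IsPGroup 2 P' ∧ (∀ y ∈ P', φ y ∈ P) ∧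
      (∀ (y : M) (n : ℕ), y ^ (2 ^ n) = 1 → φ y ∈ P → y ∈ P') ∧ P'.map φ = P := by
  have : Fact (Nat.Prime 2) := ⟨Nat.prime_two⟩
  let f : P.comap φ →* P := MonoidHom.mk' (fun x => ⟨φ x, x.2⟩) (fun x y => Subtype.ext (map_mul φ _ _))
  have hf : Function.Surjective f := by
    rintro ⟨k, hk⟩
    obtain ⟨z, rfl⟩ := h.surj k
    exact ⟨⟨z, hk⟩, rfl⟩
  obtain ⟨S⟩ := (inferInstance : Nonempty (Sylow 2 (P.comap φ)))
  have hPf : Finite P := Finite.of_surjective f hf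
  have hS : ((S.mapSurjective hf : Sylow 2 P) : Subgroup P) = ⊤ := by
    have h1 := (S.mapSurjective hf).is_maximal' (Q := ⊤) (by
      intro x
      obtain ⟨n, hn⟩ := hP x
      exact ⟨n, Subtype.ext hn⟩) le_top
    exact h1.symm
  have htwo : ∀ s ∈ (S : Subgroup (P.comap φ)), ∃ n : ℕ, (s : M) ^ (2 ^ n) = 1 := by
    intro s hs
    obtain ⟨n, hn⟩ := S.2 ⟨s, hs⟩
    exact ⟨n, congrArg Subtype.val (congrArg Subtype.val hn)⟩
  have hex : ∀ k ∈ P, ∃ s ∈ (S : Subgroup (P.comap φ)), φ (s : M) = k := by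
    intro k hk
    have h1 : (⟨k, hk⟩ : P) ∈ ((S.mapSurjective hf : Sylow 2 P) : Subgroup P) := by rw [hS]; exact mem_top _
    rw [Sylow.coe_mapSurjective] at h1
    obtain ⟨s, hs, hsz⟩ := h1
    exact ⟨s, hs, congrArg Subtype.val hsz⟩
  refine ⟨(S : Subgroup (P.comap φ)).map (P.comap φ).subtype, ?_, ?_, ?_, ?_⟩
  · exact S.2.map _
  · rintro _ ⟨s, _, rfl⟩
    exact s.2
  · intro y n hy hyP
    obtain ⟨s, hs, hsy⟩ := hex _ hyP
    obtain ⟨m, hm⟩ := htwo s hs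
    have h4 := h.lift_unique hm hy hsy
    exact ⟨s, hs, h4⟩
  · apply le_antisymm
    · rintro _ ⟨_, ⟨s, _, rfl⟩, rfl⟩
      exact s.2
    · intro k hk
      obtain ⟨s, hs, hsy⟩ := hex k hk
      exact ⟨s, ⟨s, hs, rfl⟩, hsy⟩

/-- the elements commuting with the kernel cover a simple group `K` of even order -/
theorem exists_comm [IsSimpleGroup K] {a : K} (ha1 : a ≠ 1) (ha : a * a = 1) (k : K) :
    ∃ y : M, φ y = k ∧ ∀ d ∈ φ.ker, y * d = d * y := by
  let S : Subgroup K :=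
    { carrier := {k | ∃ y : M, φ y = k ∧ ∀ d ∈ φ.ker, y * d = d * y}
      mul_mem' := by
        rintro _ _ ⟨x, rfl, hx⟩ ⟨y, rfl, hy⟩
        refine ⟨x * y, map_mul φ _ _, fun d hd => ?_⟩
        rw [mul_assoc, hy d hd, ← mul_assoc, hx d hd, mul_assoc]
      one_mem' := ⟨1, map_one φ, fun d _ => by rw [one_mul, mul_one]⟩
      inv_mem' := by
        rintro _ ⟨x, rfl, hx⟩
        refine ⟨x⁻¹, map_inv φ _, fun d hd => ?_⟩
        rw [inv_mul_eq_iff_eq_mul, ← mul_assoc, hx d hd, mul_inv_cancel_right] }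
  have hn : S.Normal := by
    refine ⟨?_⟩
    rintro _ ⟨x, rfl, hx⟩ g
    obtain ⟨g, rfl⟩ := h.surj g
    refine ⟨g * x * g⁻¹, by rw [map_mul, map_mul, map_inv], fun d hd => ?_⟩
    have h1 : g⁻¹ * d * g ∈ φ.ker := by
      rw [MonoidHom.mem_ker, map_mul, map_mul, MonoidHom.mem_ker.1 hd, mul_one, ← map_mul, inv_mul_cancel, map_one]
    calc g * x * g⁻¹ * d = g * (x * (g⁻¹ * d * g)) * g⁻¹ := by group
      _ = g * ((g⁻¹ * d * g) * x) * g⁻¹ := by rw [hx _ h1]
      _ = _ := by group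
  have haS : a ∈ S := by
    have ha2 : a ^ (2 ^ 1) = 1 := by rw [pow_one, sq, ha]
    obtain ⟨y, hy, hy2⟩ := h.exists_lift ha2
    exact ⟨y, hy, h.comm y 1 hy2⟩
  have htop : S = ⊤ := by
    refine (IsSimpleGroup.eq_bot_or_eq_top_of_normal S hn).resolve_left ?_
    intro hb
    rw [hb, mem_bot] at haS
    exact ha1 haS
  have : k ∈ S := by rw [htop]; exact mem_top _
  exact this

end OCov

/-- restriction of `M` to `H` -/
def res {G : Type*} [Group G] (M H : Subgroup G) : (M.subgroupOf H) →* M :=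
  MonoidHom.mk' (fun x => ⟨((x : H) : G), mem_subgroupOf.1 x.2⟩) (fun _ _ => rfl)

@[simp] theorem coe_res {G : Type*} [Group G] {M H : Subgroup G} (x : M.subgroupOf H) :
    ((res M H x : M) : G) = ((x : H) : G) := rfl

namespace Cov

variable {G K : Type*} [Group G] [Group K] {C : Core K} {M : Subgroup G} {φ : M →* K} (h : Cov C M φ)

include h

theorem toO : OCov φ := ⟨h.surj, h.odd, h.comm⟩

theorem exists_lift {x : K} {n : ℕ} (hx : x ^ (2 ^ n) = 1) : ∃ y : M, φ y = x ∧ y ^ (2 ^ n) = 1 :=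
  h.toO.exists_lift hx

theorem eq_one_of {x : M} {n : ℕ} (hx : x ^ (2 ^ n) = 1) (hφ : φ x = 1) : x = 1 := h.toO.eq_one_of hx hφ

theorem lift_unique {x y : M} {n m : ℕ} (hx : x ^ (2 ^ n) = 1) (hy : y ^ (2 ^ m) = 1) (hxy : φ x = φ y) :
    x = y := h.toO.lift_unique hx hy hxy

theorem lift_conj {g x y : M} {n m : ℕ} (hx : x ^ (2 ^ n) = 1) (hy : y ^ (2 ^ m) = 1)
    (hxy : φ g * φ x * (φ g)⁻¹ = φ y) : g * x * g⁻¹ = y := h.toO.lift_conj hx hy hxy

theorem lift_comm {g x : M} {n : ℕ} (hx : x ^ (2 ^ n) = 1) (hxy : φ g * φ x = φ x * φ g) : g * x = x * g :=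
  h.toO.lift_comm hx hxy

theorem exists_lsub [Finite G] {P : Subgroup K} (hP : IsPGroup 2 P) :
    ∃ P' : Subgroup M, IsPGroup 2 P' ∧ (∀ y ∈ P', φ y ∈ P) ∧
      (∀ (y : M) (n : ℕ), y ^ (2 ^ n) = 1 → φ y ∈ P → y ∈ P') ∧ P'.map φ = P :=
  h.toO.exists_lsub hP

theorem exists_comm [IsSimpleGroup K] (k : K) : ∃ y : M, φ y = k ∧ ∀ d ∈ φ.ker, y * d = d * y :=
  h.toO.exists_comm (a := C.v (1, 0)) (fun hh => by
    have := C.v_eq_one hh
    exact absurd this (by decide)) (C.v_sq _) k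

/-- restriction to a subgroup containing the elements of `M` commuting with the kernel -/
theorem sub [Finite G] [IsSimpleGroup K] {H : Subgroup G} (hH : ∀ y : M, (∀ d ∈ φ.ker, y * d = d * y) → (y : G) ∈ H) :
    Cov C (M.subgroupOf H) (φ.comp (res M H)) where
  surj := fun k => by
    obtain ⟨y, rfl, hy⟩ := h.exists_comm k
    exact ⟨⟨⟨y, hH y hy⟩, y.2⟩, rfl⟩
  odd := by
    refine Odd.of_dvd_nat h.odd ?_
    let f : (φ.comp (res M H)).ker →* φ.ker :=
      MonoidHom.mk' (fun x => ⟨res M H x, x.2⟩) (fun _ _ => rfl)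
    have hf : Function.Injective f := by
      intro x y hxy
      have h1 := congrArg Subtype.val (congrArg Subtype.val hxy)
      exact Subtype.ext (Subtype.ext (Subtype.ext h1))
    exact card_dvd_of_injective f hf
  comm := fun x n hx d hd => by
    have h1 : (res M H x) ^ (2 ^ n) = 1 := by rw [← map_pow, hx, map_one]
    have h2 := h.comm (res M H x) n h1 (res M H d) hd
    have h3 := congrArg Subtype.val h2
    exact Subtype.ext (Subtype.ext h3)
  cent := fun t ht a ha hta g hg => by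
    have h1 : (res M H t) * (res M H t) = 1 := by rw [← map_mul, ht, map_one]
    exact mem_subgroupOf.2 (h.cent (res M H t) h1 a ha hta g (congrArg Subtype.val hg))

/-- quotient by a normal subgroup contained in the kernel -/
theorem quot [Finite G] {N : Subgroup G} [N.Normal] (hN : ∀ x ∈ N, ∃ hx : x ∈ M, (⟨x, hx⟩ : M) ∈ φ.ker) :
    ∃ φ' : (M.map (QuotientGroup.mk' N)) →* K, Cov C (M.map (QuotientGroup.mk' N)) φ' ∧
      (M.map (QuotientGroup.mk' N) = ⊤ → M = ⊤) := by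
  let π := QuotientGroup.mk' N
  have hker : ∀ x, π x = 1 ↔ x ∈ N := fun x => QuotientGroup.eq_one_iff x
  let ψ : M →* M.map π := π.subgroupMap M
  have hψ : Function.Surjective ψ := π.subgroupMap_surjective M
  have hψv : ∀ x : M, ((ψ x : M.map π) : G ⧸ N) = π x := fun x => rfl
  have hψk : ∀ x : M, ψ x = 1 → x ∈ φ.ker := by
    intro x hx
    have h1 : (x : G) ∈ N := by rw [← hker, ← hψv, hx]; rfl
    obtain ⟨_, h2⟩ := hN _ h1
    exact h2
  let φ' : M.map π →* K := ψ.liftOfSurjective hψ ⟨φ, fun x hx => hψk x hx⟩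
  have hφ' : ∀ x : M, φ' (ψ x) = φ x := fun x =>
    ψ.liftOfRightInverse_comp_apply _ (Function.rightInverse_surjInv hψ) ⟨φ, fun x hx => hψk x hx⟩ x
  have htwo : ∀ (x : M) (n : ℕ), (ψ x) ^ (2 ^ n) = 1 → ∃ y : M, y ^ (2 ^ n) = 1 ∧ ψ y = ψ x ∧ φ y = φ x := by
    intro x n hx
    have h1 : φ x ^ (2 ^ n) = 1 := by rw [← hφ', ← map_pow, hx, map_one]
    obtain ⟨y, hy, hy2⟩ := h.exists_lift h1
    refine ⟨y, hy2, ?_, hy⟩
    have hd : y⁻¹ * x ∈ φ.ker := by rw [MonoidHom.mem_ker, map_mul, map_inv, hy, inv_mul_cancel]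
    have hc := h.comm y n hy2 _ hd
    have hcx : y * x = x * y := by
      calc y * x = y * (y * (y⁻¹ * x)) := by group
        _ = y * ((y⁻¹ * x) * y) := by rw [hc]
        _ = x * y := by group
    have hdπ : (ψ (y⁻¹ * x)) ^ (2 ^ (n + n)) = 1 := by
      rw [map_mul, map_inv]
      refine pow_two_mul (by rw [inv_pow, ← map_pow, hy2, map_one, inv_one]) hx ?_
      rw [inv_mul_eq_iff_eq_mul, ← mul_assoc, ← map_mul, hcx, map_mul, mul_inv_cancel_right]
    have h3 : ψ (y⁻¹ * x) = 1 := two_odd hdπ h.odd (by rw [← map_pow, pow_card_mem hd, map_one])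
    rw [map_mul, map_inv] at h3
    exact inv_mul_eq_one.1 h3
  refine ⟨φ', ⟨?_, ?_, ?_, ?_⟩, ?_⟩
  · intro k
    obtain ⟨x, rfl⟩ := h.surj k
    exact ⟨ψ x, hφ' x⟩
  · refine Odd.of_dvd_nat h.odd ?_
    let f : φ.ker →* φ'.ker := MonoidHom.mk' (fun x => ⟨ψ x, by
      rw [MonoidHom.mem_ker, hφ']; exact x.2⟩) (fun x y => Subtype.ext (map_mul ψ _ _))
    have hf : Function.Surjective f := by
      rintro ⟨y, hy⟩
      obtain ⟨x, rfl⟩ := hψ y
      rw [MonoidHom.mem_ker, hφ'] at hy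
      exact ⟨⟨x, hy⟩, rfl⟩
    exact card_dvd_of_surjective f hf
  · intro x n hx d hd
    obtain ⟨x, rfl⟩ := hψ x
    obtain ⟨d, rfl⟩ := hψ d
    rw [MonoidHom.mem_ker, hφ'] at hd
    obtain ⟨y, hy2, hyx, -⟩ := htwo x n hx
    rw [← hyx, ← map_mul, h.comm y n hy2 d hd, map_mul]
  · intro x hx a ha hxa g hg
    obtain ⟨x, rfl⟩ := hψ x
    rw [hφ'] at hxa
    obtain ⟨y, hy2, hyx, hyφ⟩ := htwo x 1 (by rw [pow_one, sq, hx])
    have hyy : y * y = 1 := by rw [← hy2, pow_one, sq]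
    obtain ⟨g, rfl⟩ := QuotientGroup.mk'_surjective N g
    have hg' : π g * π (y : G) = π (y : G) * π g := by
      have h1 : π (y : G) = ((ψ x : M.map π) : G ⧸ N) := by rw [← hyx, hψv]
      rw [h1]; exact hg
    have h1 : g * y * g⁻¹ * (y : G)⁻¹ ∈ N := by
      rw [← hker, map_mul, map_mul, map_mul, map_inv, map_inv, hg']
      group
    obtain ⟨h2, h3⟩ := hN _ h1
    set n : M := ⟨g * y * g⁻¹ * (y : G)⁻¹, h2⟩ with hn
    have hc := h.comm y 1 hy2 n h3
    have hcG : (y : G) * (n : G) = n * y := congrArg Subtype.val hc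
    have hyyG : (y : G) * y = 1 := congrArg Subtype.val hyy
    have h4 : g * y * g⁻¹ = (n : G) * y := by
      show g * y * g⁻¹ = g * y * g⁻¹ * (y : G)⁻¹ * y
      group
    have h5 : ((n : G) * y) * (n * y) = 1 := by
      rw [← h4]
      calc (g * y * g⁻¹) * (g * y * g⁻¹) = g * (y * y) * g⁻¹ := by group
        _ = 1 := by rw [hyyG, mul_one, mul_inv_cancel]
    have h6 : (n : G) * n = 1 := by
      calc (n : G) * n = n * n * (y * y) := by rw [hyyG, mul_one]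
        _ = n * (n * y) * y := by group
        _ = n * (y * n) * y := by rw [hcG]
        _ = (n * y) * (n * y) := by group
        _ = 1 := h5
    have h7 : n = 1 := h.eq_one_of (n := 1) (by rw [pow_one, sq]; exact Subtype.ext h6) h3
    rw [h7, OneMemClass.coe_one, one_mul] at h4
    have h8 : g * (y : G) = y * g := mul_inv_eq_iff_eq_mul.1 h4
    exact ⟨g, h.cent y hyy a ha (by rw [hyφ]; exact hxa) g h8, rfl⟩
  · intro htop
    rw [eq_top_iff]
    intro g _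
    have h3 : π g ∈ M.map π := by
      have : M.map π = ⊤ := htop
      rw [this]; exact mem_top _
    obtain ⟨m, hm, hmg⟩ := h3
    have h4 : m⁻¹ * g ∈ N := by
      rw [← hker, map_mul, map_inv, hmg, inv_mul_cancel]
    obtain ⟨h5, -⟩ := hN _ h4
    have h6 : g = m * (m⁻¹ * g) := by group
    rw [h6]
    exact mul_mem hm h5

end Cov

end Cfsg.Agent.RuC
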