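import Cfsg.Agent.RuB.CGZ
import Cfsg.Agent.Dichotomy.Elem
import Cfsg.Agent.S0058

/-!
# `H = Q D` (cores in the Rudvalis analysis)

Abstract form of the argument for `C_G(Z) = Q × D`.
-/

set_option autoImplicit false

namespace Cfsg.Agent.RuC.CGZ2

open Subgroup Cfsg.Agent.Dichotomy.Elem

/-- `X` of odd order, normalised by the four-group `⟨a, b⟩`, is generated by its intersections with the three
centralisers. -/
theorem four_le_of {G : Type*} [Group G] [Finite G] {X K : Subgroup G} (hX : Odd (Nat.card X)) {a b : G}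
    (ha : a * a = 1) (hb : b * b = 1)
    (hab : a * b = b * a) (ha1 : a ≠ 1) (hb1 : b ≠ 1) (hne : a ≠ b)
    (na : a ∈ Subgroup.normalizer (X : Set G)) (nb : b ∈ Subgroup.normalizer (X : Set G))
    (h1 : ∀ x ∈ X, x * a = a * x → x ∈ K) (h2 : ∀ x ∈ X, x * b = b * x → x ∈ K)
    (h3 : ∀ x ∈ X, x * (a * b) = (a * b) * x → x ∈ K) : X ≤ K := by
  have hel := elem_four ha hb hab
  have hcm := hel.1
  have h4 := card_four ha hb hab ha1 hb1 hne
  have hncyc : ¬ IsCyclic (four a b) := by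
    intro hcyc
    obtain ⟨g, hg⟩ := IsCyclic.exists_generator (α := four a b)
    have h3 : orderOf g = Nat.card (four a b) := orderOf_eq_card_of_forall_mem_zpowers hg
    have h4' : g ^ 2 = 1 := by
      ext
      simpa using hel.2 g g.2
    have h5 : orderOf g ≤ 2 := orderOf_le_of_pow_eq_one (by norm_num) h4'
    rw [h3, h4] at h5
    omega
  have hcop : (Nat.card (four a b)).Coprime (Nat.card X) := by
    rw [h4, show 4 = 2 ^ 2 from rfl]
    exact Nat.Coprime.pow_left 2 (Nat.coprime_two_left.2 hX)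
  have h7 := Cfsg.Agent.S0058.result (four a b) X hncyc (four_le na nb) hcop
  rw [← h7]
  refine iSup₂_le ?_
  rintro c ⟨hc, hc1⟩ x hx
  rw [Subgroup.mem_inf, Subgroup.mem_centralizer_singleton_iff] at hx
  rcases (mem_four_iff ha hb hab).1 hc with rfl | rfl | rfl | rfl
  · exact absurd rfl hc1
  · exact h1 x hx.1 hx.2
  · exact h2 x hx.1 hx.2
  · exact h3 x hx.1 hx.2

/-- an element `q * d` of odd order, `q` of 2-power order commuting with `d` of odd order, equals `d` -/
theorem eq_of_odd {G : Type*} [Group G] {q d : G} (hc : q * d = d * q) {n m k : ℕ} (hq : q ^ (2 ^ n) = 1)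
    (hd : d ^ m = 1) (hm : Odd m) (hk : Odd k) (h : (q * d) ^ k = 1) : q = 1 := by
  have hcc : Commute q d := hc
  have h1 : q ^ (k * m) = 1 := by
    have h2 : (q * d) ^ (k * m) = 1 := by rw [pow_mul, h, one_pow]
    rw [hcc.mul_pow, mul_comm k m, pow_mul d, hd, one_pow, mul_one] at h2
    rw [mul_comm]; exact h2
  have h2 : orderOf q ∣ 2 ^ n := orderOf_dvd_of_pow_eq_one hq
  have h3 : orderOf q ∣ k * m := orderOf_dvd_of_pow_eq_one h1
  have h4 : Nat.Coprime (2 ^ n) (k * m) :=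
    Nat.Coprime.pow_left _ (Nat.coprime_two_left.2 (hk.mul hm))
  exact orderOf_eq_one_iff.1 (Nat.eq_one_of_dvd_coprimes h4 h2 h3)

variable {H : Type*} [Group H] [Finite H]

theorem eq_mul_of {Z Q D : Subgroup H} (hZ : ∀ z ∈ Z, ∀ x, x * z = z * x) (hZQ : Z ≤ Q) (hQ : IsPGroup 2 Q)
    (hcomm : ∀ x ∈ Q, ∀ y ∈ Q, x * y * x⁻¹ * y⁻¹ ∈ Z) (hD : Odd (Nat.card D))
    (hDQ : ∀ d ∈ D, ∀ q ∈ Q, q * d = d * q)
    (hN : ∀ g, (∀ x, x ∈ Q ↔ g * x * g⁻¹ ∈ Q) → ∃ q ∈ Q, ∃ d ∈ D, g = q * d)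
    (hZ2 : ∀ z ∈ Z, z * z = 1) {v w : H} (hv2 : v * v = 1) (hw2 : w * w = 1) (hvw : v * w = w * v)
    (h1 : ∀ x, x * v = v * x → ∃ q ∈ Q, ∃ d ∈ D, x = q * d)
    (h2 : ∀ x, x * w = w * x → ∃ q ∈ Q, ∃ d ∈ D, x = q * d)
    (h3 : ∀ x, x * (v * w) = v * w * x → ∃ q ∈ Q, ∃ d ∈ D, x = q * d) :
    ∀ x : H, ∃ q ∈ Q, ∃ d ∈ D, x = q * d := by
  have : Fact (Nat.Prime 2) := ⟨Nat.prime_two⟩
  have hdo : ∀ d ∈ D, d ^ (Nat.card D) = 1 := by
    intro d hd
    have := pow_card_eq_one' (x := (⟨d, hd⟩ : D))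
    exact congrArg Subtype.val this
  -- degenerate cases
  by_cases hvZ : v ∈ Z
  · intro x
    exact h1 x (hZ v hvZ x)
  by_cases hwZ : w ∈ Z
  · intro x
    exact h2 x (hZ w hwZ x)
  by_cases hvwZ : v * w ∈ Z
  · intro x
    exact h3 x (hZ _ hvwZ x)
  -- `Q` is a Sylow subgroup
  obtain ⟨P, hP⟩ := hQ.exists_le_sylow
  have hPQ : (P : Subgroup H) = Q := by
    apply Cfsg.Agent.Blocks.SylowIn.eq_of_normalizer_inf_le P.2 hP
    rintro x ⟨hx1, hx2⟩
    obtain ⟨q, hq, d, hd, rfl⟩ := hN x (fun y => mem_normalizer_iff.1 hx1 y)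
    have hdP : d ∈ (P : Subgroup H) := by
      have : d = q⁻¹ * (q * d) := by group
      rw [this]
      exact mul_mem (inv_mem (hP hq)) hx2
    obtain ⟨n, hn⟩ := P.2 ⟨d, hdP⟩
    have hn' : d ^ (2 ^ n) = 1 := congrArg Subtype.val hn
    have hd1 : d = 1 := by
      apply eq_of_odd (q := d) (d := 1) (by rw [mul_one, one_mul]) hn' (one_pow 1) odd_one hD
      rw [mul_one]; exact hdo d hd
    rw [hd1, mul_one]; exact hq
  have hZn : Z.Normal := ⟨fun z hz g => by
    rw [hZ z hz g, mul_inv_cancel_right]; exact hz⟩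
  let π := QuotientGroup.mk' Z
  have hπ : Function.Surjective π := QuotientGroup.mk'_surjective Z
  have hker : ∀ x, π x = 1 ↔ x ∈ Z := fun x => QuotientGroup.eq_one_iff x
  let PP : Sylow 2 (H ⧸ Z) := P.mapSurjective hπ
  have hPP : ∀ x : H, π x ∈ (PP : Subgroup (H ⧸ Z)) ↔ x ∈ Q := by
    intro x
    have : (PP : Subgroup (H ⧸ Z)) = Q.map π := by
      rw [Sylow.coe_mapSurjective, hPQ]
    rw [this]
    constructor
    · rintro ⟨y, hy, hyx⟩
      have h4 : y⁻¹ * x ∈ Z := by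
        rw [← hker, map_mul, map_inv, hyx, inv_mul_cancel]
      have : x = y * (y⁻¹ * x) := by group
      rw [this]
      exact mul_mem hy (hZQ h4)
    · intro hx
      exact ⟨x, hx, rfl⟩
  have hburn : normalizer ((PP : Subgroup (H ⧸ Z)) : Set (H ⧸ Z)) ≤ centralizer ((PP : Subgroup (H ⧸ Z)) : Set (H ⧸ Z)) := by
    intro g hg
    obtain ⟨g, rfl⟩ := hπ g
    obtain ⟨q, hq, d, hd, rfl⟩ : ∃ q ∈ Q, ∃ d ∈ D, g = q * d := by
      apply hN
      intro x
      rw [mem_normalizer_iff] at hg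
      rw [← hPP, ← hPP, map_mul, map_mul, map_inv]
      exact hg (π x)
    rw [mem_centralizer_iff]
    intro y hy
    obtain ⟨y, rfl⟩ := hπ y
    have hyQ : y ∈ Q := (hPP y).1 hy
    have h4 := (hker _).2 (hcomm _ hyQ _ hq)
    rw [map_mul, map_mul, map_mul, map_inv, map_inv, mul_inv_eq_one, mul_inv_eq_iff_eq_mul] at h4
    calc π y * π (q * d) = (π y * π q) * π d := by rw [map_mul]; group
      _ = π q * π (y * d) := by rw [h4, map_mul]; group
      _ = π (q * d) * π y := by rw [hDQ d hd y hyQ, map_mul, map_mul]; group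
  let N := (MonoidHom.transferSylow PP hburn).ker
  have hcompl : IsComplement' N (PP : Subgroup (H ⧸ Z)) := MonoidHom.ker_transferSylow_isComplement' PP hburn
  have hodd : Odd (Nat.card N) := by
    rw [← Nat.not_even_iff_odd, even_iff_two_dvd]
    exact MonoidHom.not_dvd_card_ker_transferSylow PP hburn
  -- fixed points are in the image of `D`
  have key : ∀ u : H, (∀ x, x * u = u * x → ∃ q ∈ Q, ∃ d ∈ D, x = q * d) → ∀ x ∈ N, x * π u = π u * x →
      x ∈ D.map π := by
    intro u hu x hx hxu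
    obtain ⟨x, rfl⟩ := hπ x
    have h4 : u * x * u⁻¹ * x⁻¹ ∈ Z := by
      rw [← hker, map_mul, map_mul, map_mul, map_inv, map_inv, ← hxu]
      group
    have h5 : x * x * u = u * (x * x) := by
      set z := u * x * u⁻¹ * x⁻¹ with hz
      have h6 : u * x = z * x * u := by rw [hz]; group
      calc x * x * u = (z * z) * (x * x * u) := by rw [hZ2 z h4, one_mul]
        _ = z * (z * x) * x * u := by group
        _ = z * (x * z) * x * u := by rw [hZ z h4 x]
        _ = (z * x) * (z * x * u) := by group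
        _ = (z * x) * (u * x) := by rw [h6]
        _ = (z * x * u) * x := by group
        _ = (u * x) * x := by rw [h6]
        _ = _ := by group
    obtain ⟨q, hq, d, hd, h6⟩ := hu _ h5
    obtain ⟨n, hn⟩ := hQ ⟨q, hq⟩
    have hn' : q ^ (2 ^ n) = 1 := congrArg Subtype.val hn
    have hxk : (π x) ^ (Nat.card N) = 1 := by
      have := pow_card_eq_one' (x := (⟨π x, hx⟩ : N))
      exact congrArg Subtype.val this
    have hπq : π q = 1 := by
      apply eq_of_odd (q := π q) (d := π d) (n := n) (m := Nat.card D) (k := Nat.card N)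
        (by rw [← map_mul, ← map_mul, hDQ d hd q hq]) (by rw [← map_pow, hn', map_one])
        (by rw [← map_pow, hdo d hd, map_one]) hD hodd
      rw [← map_mul, ← h6, map_mul, ← sq, ← pow_mul, mul_comm, pow_mul, hxk, one_pow]
    have h7 : π x * π x = π d := by
      rw [← map_mul, h6, map_mul, hπq, one_mul]
    obtain ⟨k, hk⟩ := hodd
    have h8 : π x = (π d) ^ (k + 1) := by
      rw [← h7, ← sq, ← pow_mul]
      have : 2 * (k + 1) = (2 * k + 1) + 1 := by ring
      rw [this, ← hk, pow_succ, hxk, one_mul]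
    rw [h8]
    exact pow_mem (mem_map_of_mem π hd) _
  have hNn : N.Normal := MonoidHom.normal_ker _
  have hNle : N ≤ D.map π := by
    refine four_le_of (a := π v) (b := π w) hodd (by rw [← map_mul, hv2, map_one])
      (by rw [← map_mul, hw2, map_one]) (by rw [← map_mul, hvw, map_mul]) (fun h => hvZ ((hker _).1 h))
      (fun h => hwZ ((hker _).1 h)) ?_ ?_ ?_ (key v h1) (key w h2) ?_
    · intro h
      apply hvwZ
      rw [← hker, map_mul, h, ← map_mul, hw2, map_one]
    · rw [normalizer_eq_top]; exact mem_top _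
    · rw [normalizer_eq_top]; exact mem_top _
    · intro x hx hxc
      apply key (v * w) h3 x hx
      rw [map_mul]
      exact hxc
  intro x
  obtain ⟨⟨a, b⟩, hab, -⟩ := hcompl.existsUnique (π x)
  have hab' : (a : H ⧸ Z) * b = π x := hab
  obtain ⟨d, hd, hda⟩ := hNle a.2
  have h4 : π (d⁻¹ * x) ∈ (PP : Subgroup (H ⧸ Z)) := by
    rw [map_mul, map_inv, hda, ← hab', inv_mul_cancel_left]
    exact b.2
  have h5 := (hPP _).1 h4
  refine ⟨d⁻¹ * x, h5, d, hd, ?_⟩
  rw [hDQ d hd _ h5]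
  group

end Cfsg.Agent.RuC.CGZ2
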