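import Cfsg.Agent.RuC.Lift
import Cfsg.Agent.RuB.Local

/-!
# `C_G(Z') = Q' D`
-/

set_option autoImplicit false
set_option Elab.async false

namespace Cfsg.Agent.RuC

open Subgroup Cfsg.Agent.RuB Cfsg.Agent.RuB.Core Cfsg.Agent.RuB.NormZ Cfsg.Agent.RuB.NormQ

section auto

variable {K : Type*} [Group K] {C : Core K} (K0 : Coord C)

/-- an automorphism of `QQ` fixing `Z` fixes `v (1,0)` modulo `Z` -/
theorem plane_auto (hμ : K0.μ ≠ 0) {θ : K → K} (hθ : ∀ x ∈ C.QQ, θ x ∈ C.QQ)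
    (hm : ∀ x ∈ C.QQ, ∀ y ∈ C.QQ, θ (x * y) = θ x * θ y) (hz : ∀ b, θ (C.z b) = C.z b)
    (hs : ∀ y ∈ C.QQ, ∃ x ∈ C.QQ, θ x = y) : K0.π (θ (C.v (1, 0))) = ((1, 0), 0, 0) := by
  have ht : C.v (1, 0) ∈ C.QQ := TT_le (v_mem_TT _)
  have hsQ : C.v (0, 1) ∈ C.QQ := TT_le (v_mem_TT _)
  have ht' := hθ _ ht
  have hs' := hθ _ hsQ
  have form : ∀ x ∈ C.QQ, ∀ y ∈ C.QQ, bf K0.μ (K0.π (θ x)) (K0.π (θ y)) = bf K0.μ (K0.π x) (K0.π y) := by
    intro x hx y hy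
    have h1 := K0.comm (hθ x hx) (hθ y hy)
    have h2 := congrArg θ (K0.comm hx hy)
    have hzQ : C.z (bf K0.μ (K0.π x) (K0.π y)) ∈ C.QQ := TT_le (z_mem_TT _)
    rw [hm _ hx _ hy, hm _ (mul_mem hy hx) _ hzQ, hm _ hy _ hx, hz] at h2
    rw [h1] at h2
    exact C.z_inj (mul_left_cancel h2)
  have hal0 : K8.al ≠ 0 := by decide +kernel
  have hal1 : K8.al ≠ 1 := by decide +kernel
  have key : ∀ w, bf K0.μ (K0.π (θ (C.v (0, 1)))) w = bf K0.μ (K0.π (θ (C.v (1, 0)))) w * K8.al := by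
    intro w
    obtain ⟨u', hu', rfl⟩ := K0.surj w
    obtain ⟨u, hu, rfl⟩ := hs u' hu'
    rw [form _ hsQ _ hu, form _ ht _ hu, K0.v, K0.v]
    simp only [bf, emb_one, emb_al]
    ring
  obtain ⟨h1, h2, h3, h4, h5⟩ := prop_form hμ hal0 hal1 key
  have : ∀ b b' : A4, emb b' = emb b * K8.al → b ≠ 0 → b = (1, 0) := by decide +kernel
  have hb : (K0.π (θ (C.v (1, 0)))).1 = (1, 0) := by
    refine this _ _ h3 ?_
    intro h0
    have h6 : K0.π (θ (C.v (1, 0))) = 0 := Prod.ext h0 (Prod.ext h1 h2)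
    obtain ⟨x, hx, hxp⟩ := K0.surj ((0, 0), 0, 1)
    have h8 := form _ ht _ hx
    rw [h6, K0.v, hxp] at h8
    have h9 : bf K0.μ 0 (K0.π (θ x)) = 0 := by
      simp only [bf, Prod.fst_zero, Prod.snd_zero, emb_zero]
      ring
    rw [h9] at h8
    simp only [bf, emb_one] at h8
    have h10 : (1 : K8) = 0 := by linear_combination -h8
    exact one_ne_zero h10
  exact Prod.ext hb (Prod.ext h1 h2)

include K0 in
/-- `QQ` is a 2-group -/
theorem two_QQ {x : K} (hx : x ∈ C.QQ) : Two x := by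
  refine ⟨2, ?_⟩
  have h1 := K0.sq x hx
  have : x ^ (2 ^ 2) = (x * x) * (x * x) := by
    rw [← sq, ← sq, ← pow_mul]; rfl
  rw [this, h1, C.z_sq]

end auto

namespace Cov

variable {G K : Type*} [Group G] [Group K] {C : Core K} {M : Subgroup G} {φ : M →* K} (h : Cov C M φ)

/-- the lift of a 2-element of `K` to `G` -/
noncomputable def ll (x : K) : G := (h.toO.lf x : M)

theorem ll_mem (x : K) : h.ll x ∈ M := (h.toO.lf x).2

/-- the kernel as a subgroup of `G` -/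
def DG (_h : Cov C M φ) : Subgroup G := φ.ker.map M.subtype

theorem mem_DG {x : G} : x ∈ h.DG ↔ ∃ hx : x ∈ M, φ ⟨x, hx⟩ = 1 := by
  constructor
  · rintro ⟨d, hd, rfl⟩
    exact ⟨d.2, hd⟩
  · rintro ⟨hd, hd'⟩
    exact ⟨⟨x, hd⟩, hd', rfl⟩

theorem DG_odd : Odd (Nat.card h.DG) := by
  unfold DG
  rw [card_map_of_injective M.subtype_injective]
  exact h.odd

theorem ll_DG {x : K} {d : G} (hd : d ∈ h.DG) : h.ll x * d = d * h.ll x := by
  obtain ⟨hd1, hd2⟩ := h.mem_DG.1 hd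
  exact congrArg Subtype.val (h.toO.two_comm_ker (h.toO.two_lf x) (d := ⟨d, hd1⟩) hd2)

theorem two_ll (x : K) : Two (h.ll x) := two_coe.2 (h.toO.two_lf x)

theorem ll_inj {x y : K} (hx : Two x) (hy : Two y) (hxy : h.ll x = h.ll y) : x = y :=
  h.toO.lf_inj hx hy (Subtype.ext hxy)

theorem ll_one : h.ll 1 = 1 := congrArg Subtype.val h.toO.lf_one

theorem ll_inv {x : K} (hx : Two x) : h.ll x⁻¹ = (h.ll x)⁻¹ := congrArg Subtype.val (h.toO.lf_inv hx)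

theorem ll_mul [Finite G] {P : Subgroup K} (hP : IsPGroup 2 P) {x y : K} (hx : x ∈ P) (hy : y ∈ P) :
    h.ll (x * y) = h.ll x * h.ll y := congrArg Subtype.val (h.toO.lf_mul hP hx hy)

theorem ll_eq {x : K} {y : M} (hy : Two y) (hyx : φ y = x) : h.ll x = y := congrArg Subtype.val (h.toO.lf_eq hy hyx)

theorem conj_ll (g : M) {x : K} (hx : Two x) : (g : G) * h.ll x * (g : G)⁻¹ = h.ll (φ g * x * (φ g)⁻¹) :=
  congrArg Subtype.val (h.toO.conj_lf g hx)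

theorem comm_ll {g : M} {x : K} (hx : Two x) : (g : G) * h.ll x = h.ll x * (g : G) ↔ φ g * x = x * φ g := by
  constructor
  · intro hc
    exact h.toO.comm_of_comm_lf hx (Subtype.ext hc)
  · intro hc
    exact congrArg Subtype.val (h.toO.comm_lf hx hc)

theorem ll_comm_ll {x y : K} (hx : Two x) (hy : Two y) (hc : x * y = y * x) : h.ll x * h.ll y = h.ll y * h.ll x :=
  (h.comm_ll hy).2 (by rw [h.toO.φ_lf hx, hc])

theorem two_v (a : A4) : Two (C.v a) := two_of_sq (C.v_sq a)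

theorem two_z (b : K8) : Two (C.z b) := two_of_sq (C.z_sq b)

/-- the lifts of the `v a` -/
noncomputable def v' (a : A4) : G := h.ll (C.v a)

/-- the lifts of the `z b` -/
noncomputable def z' (b : K8) : G := h.ll (C.z b)

theorem v'_sq (a : A4) : h.v' a * h.v' a = 1 := congrArg Subtype.val (h.toO.lf_two_sq (C.v_sq a))

theorem z'_sq (b : K8) : h.z' b * h.z' b = 1 := congrArg Subtype.val (h.toO.lf_two_sq (C.z_sq b))

theorem v'_add (a b : A4) : h.v' (a + b) = h.v' a * h.v' b := by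
  unfold v'
  rw [C.v_add]
  exact congrArg Subtype.val (h.toO.lf_mul_of_comm (two_v a) (two_v b) (C.v_v_comm a b))

theorem z'_add (a b : K8) : h.z' (a + b) = h.z' a * h.z' b := by
  unfold z'
  rw [C.z_add]
  exact congrArg Subtype.val (h.toO.lf_mul_of_comm (two_z a) (two_z b) (C.z_comm a b))

theorem v'_z' (a : A4) (b : K8) : h.v' a * h.z' b = h.z' b * h.v' a :=
  h.ll_comm_ll (two_v a) (two_z b) (C.v_z_comm a b)

/-- `C_G(v' a) ≤ M` -/
theorem mem_of_comm_v' {a : A4} (ha : a ≠ 0) {g : G} (hg : g * h.v' a = h.v' a * g) : g ∈ M := by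
  have h1 : h.toO.lf (C.v a) * h.toO.lf (C.v a) = 1 := h.toO.lf_two_sq (C.v_sq a)
  exact h.cent _ h1 a ha (h.toO.φ_lf (two_v a)) g hg

/-- elements above a 2-element -/
theorem exists_DG {g : M} (hx : Two (φ g)) : ∃ d ∈ h.DG, (g : G) = h.ll (φ g) * d := by
  obtain ⟨d, hd, hg⟩ := h.toO.exists_ker hx
  exact ⟨d, ⟨d, hd, rfl⟩, congrArg Subtype.val hg⟩

/-- the centraliser of `Z'` -/
def cz' : Subgroup G where
  carrier := {g | ∀ b, g * h.z' b = h.z' b * g}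
  mul_mem' := fun {x y} hx hy b => by rw [mul_assoc, hy b, ← mul_assoc, hx b, mul_assoc]
  one_mem' := fun b => by rw [one_mul, mul_one]
  inv_mem' := fun {x} hx b => by
    have := hx b
    rw [inv_mul_eq_iff_eq_mul, ← mul_assoc, this, mul_inv_cancel_right]

theorem mem_cz' {g : G} : g ∈ h.cz' ↔ ∀ b, g * h.z' b = h.z' b * g := Iff.rfl

variable [Finite G]

/-- the lift of `QQ` -/
def QG (h : Cov C M φ) (K0 : Coord C) : Subgroup G where
  carrier := {x | ∃ q ∈ C.QQ, x = h.ll q}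
  mul_mem' := by
    rintro _ _ ⟨q, hq, rfl⟩ ⟨r, hr, rfl⟩
    exact ⟨q * r, mul_mem hq hr, (h.ll_mul (isPGroup_of_two (fun _ hx => two_QQ K0 hx)) hq hr).symm⟩
  one_mem' := ⟨1, one_mem _, h.ll_one.symm⟩
  inv_mem' := by
    rintro _ ⟨q, hq, rfl⟩
    exact ⟨q⁻¹, inv_mem hq, (h.ll_inv (two_QQ K0 hq)).symm⟩

variable (K0 : Coord C)

theorem mem_QG {x : G} : x ∈ h.QG K0 ↔ ∃ q ∈ C.QQ, x = h.ll q := Iff.rfl

include K0 in
omit [Group G] [Finite G] in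
theorem isPGroup_QQ : IsPGroup 2 C.QQ := isPGroup_of_two (fun _ hx => two_QQ K0 hx)

theorem two_QG {x : G} (hx : x ∈ h.QG K0) : Two x := by
  obtain ⟨q, _, rfl⟩ := hx
  exact h.two_ll q

theorem v'_mem_QG (a : A4) : h.v' a ∈ h.QG K0 := ⟨C.v a, TT_le (v_mem_TT a), rfl⟩

theorem z'_mem_QG (b : K8) : h.z' b ∈ h.QG K0 := ⟨C.z b, TT_le (z_mem_TT b), rfl⟩

theorem QG_le_cz' {x : G} (hx : x ∈ h.QG K0) (b : K8) : x * h.z' b = h.z' b * x := by
  obtain ⟨q, hq, rfl⟩ := hx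
  obtain ⟨c, hc⟩ := hq
  exact h.ll_comm_ll (two_QQ K0 ⟨c, hc⟩) (two_z b) (hc.1 b)

/-- elements of `M` centralising `Z'` -/
theorem mem_of_M [Finite K] (hμ : K0.μ = ⟨7⟩) {g : G} (hg : g ∈ h.cz') (hgM : g ∈ M) :
    ∃ q ∈ h.QG K0, ∃ d ∈ h.DG, g = q * d := by
  have h1 : φ ⟨g, hgM⟩ ∈ C.QQ := by
    apply Local.cent_le K0 hμ
    intro b
    exact (h.comm_ll (g := ⟨g, hgM⟩) (two_z b)).1 (hg b)
  obtain ⟨d, hd, hd2⟩ := h.exists_DG (g := ⟨g, hgM⟩) (two_QQ K0 h1)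
  exact ⟨_, ⟨_, h1, rfl⟩, d, hd, hd2⟩

/-- the centraliser of `Z'` is `Q' D` -/
theorem cent_Z' [Finite K] (hμ : K0.μ = ⟨7⟩) {g : G} (hg : g ∈ h.cz') : ∃ q ∈ h.QG K0, ∃ d ∈ h.DG, g = q * d := by
  have hμ0 : K0.μ ≠ 0 := by rw [hμ]; decide +kernel
  have hv : ∀ a : A4, h.v' a ∈ h.cz' := fun a b => h.v'_z' a b
  have hP := isPGroup_QQ K0
  have hDc : ∀ d ∈ h.DG, d ∈ h.cz' := fun d hd b => (h.ll_DG hd).symm
  have hfix : ∀ a : A4, a ≠ 0 → ∀ x : h.cz', x * ⟨h.v' a, hv a⟩ = ⟨h.v' a, hv a⟩ * x →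
      ∃ q ∈ (h.QG K0).subgroupOf h.cz', ∃ d ∈ h.DG.subgroupOf h.cz', x = q * d := by
    intro a ha x hx
    have hxM : (x : G) ∈ M := h.mem_of_comm_v' ha (congrArg Subtype.val hx)
    obtain ⟨q, hq, d, hd, hqd⟩ := h.mem_of_M K0 hμ x.2 hxM
    exact ⟨⟨q, fun b => h.QG_le_cz' K0 hq b⟩, hq, ⟨d, hDc d hd⟩, hd, Subtype.ext hqd⟩
  have main : ∀ x : h.cz', ∃ q ∈ (h.QG K0).subgroupOf h.cz', ∃ d ∈ h.DG.subgroupOf h.cz', x = q * d := by
    let Z : Subgroup h.cz' :=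
      { carrier := {x | ∃ e, (x : G) = h.z' e}
        mul_mem' := fun {x y} ⟨e, he⟩ ⟨f, hf⟩ => ⟨e + f, by rw [h.z'_add, ← he, ← hf]; rfl⟩
        one_mem' := ⟨0, by
          unfold z'
          rw [C.z_zero, h.ll_one]; rfl⟩
        inv_mem' := fun {x} ⟨e, he⟩ => ⟨e, by
          have : ((x⁻¹ : h.cz') : G) = (x : G)⁻¹ := rfl
          rw [this, he, inv_eq_iff_mul_eq_one]
          exact h.z'_sq e⟩ }
    refine CGZ2.eq_mul_of (Z := Z) (v := ⟨h.v' (1, 0), hv _⟩) (w := ⟨h.v' (0, 1), hv _⟩) ?_ ?_ ?_ ?_ ?_ ?_ ?_ ?_ ?_ ?_ ?_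
      (hfix _ (by decide)) (hfix _ (by decide)) ?_
    · rintro ⟨z, hz⟩ ⟨e, he⟩ ⟨x, hx⟩
      apply Subtype.ext
      have he' : z = h.z' e := he
      show x * z = z * x
      rw [he']
      exact hx e
    · rintro ⟨z, hz⟩ ⟨e, he⟩
      rw [mem_subgroupOf, he]
      exact h.z'_mem_QG K0 e
    · apply isPGroup_of_two
      intro x hx
      exact two_coe.1 (h.two_QG K0 (mem_subgroupOf.1 hx))
    · rintro ⟨x, hx⟩ hxQ ⟨y, hy⟩ hyQ
      obtain ⟨q, hq, hqx⟩ := mem_subgroupOf.1 hxQ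
      obtain ⟨r, hr, hry⟩ := mem_subgroupOf.1 hyQ
      change x = h.ll q at hqx
      change y = h.ll r at hry
      refine ⟨bf K0.μ (K0.π q) (K0.π r), ?_⟩
      show x * y * x⁻¹ * y⁻¹ = h.ll (C.z (bf K0.μ (K0.π q) (K0.π r)))
      have hc := K0.comm hq hr
      have hzc : q⁻¹ * C.z (bf K0.μ (K0.π q) (K0.π r)) = C.z (bf K0.μ (K0.π q) (K0.π r)) * q⁻¹ :=
        let ⟨c, hc'⟩ := inv_mem hq
        hc'.1 _
      have hzc2 : r⁻¹ * C.z (bf K0.μ (K0.π q) (K0.π r)) = C.z (bf K0.μ (K0.π q) (K0.π r)) * r⁻¹ :=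
        let ⟨c, hc'⟩ := inv_mem hr
        hc'.1 _
      have hcz : ∀ s ∈ C.QQ, ∀ e, s * C.z e = C.z e * s := fun s ⟨c, hc'⟩ e => hc'.1 e
      have h2 : q * r * q⁻¹ * r⁻¹ = C.z (bf K0.μ (K0.π q) (K0.π r)) := by
        rw [hc, mul_assoc (r * q), ← hzc, ← mul_assoc, mul_inv_cancel_right, mul_assoc, ← hzc2, ← mul_assoc,
          mul_inv_cancel, one_mul]
      rw [← h2, h.ll_mul hP (mul_mem (mul_mem hq hr) (inv_mem hq)) (inv_mem hr),
        h.ll_mul hP (mul_mem hq hr) (inv_mem hq), h.ll_mul hP hq hr, h.ll_inv (two_QQ K0 hq),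
        h.ll_inv (two_QQ K0 hr), hqx, hry]
    · refine Odd.of_dvd_nat h.DG_odd ?_
      exact card_comap_dvd_of_injective _ _ h.cz'.subtype_injective
    · rintro ⟨d, hd⟩ hd' ⟨q, hq⟩ hq'
      obtain ⟨r, hr, hrq⟩ := mem_subgroupOf.1 hq'
      change q = h.ll r at hrq
      apply Subtype.ext
      show q * d = d * q
      rw [hrq]
      exact h.ll_DG (mem_subgroupOf.1 hd')
    · rintro ⟨g, hg⟩ hn
      -- the induced automorphism
      have hn' : ∀ x, x ∈ h.QG K0 ↔ g * x * g⁻¹ ∈ h.QG K0 := by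
        intro x
        constructor
        · intro hx
          exact mem_subgroupOf.1 ((hn ⟨x, fun b => h.QG_le_cz' K0 hx b⟩).1 (mem_subgroupOf.2 hx))
        · intro hx
          have hxc : x ∈ h.cz' := by
            have h1 : g * x * g⁻¹ ∈ h.cz' := fun b => h.QG_le_cz' K0 hx b
            have h2 := mul_mem (mul_mem (inv_mem hg) h1) hg
            have e : g⁻¹ * (g * x * g⁻¹) * g = x := by group
            rwa [e] at h2
          exact mem_subgroupOf.1 ((hn ⟨x, hxc⟩).2 (mem_subgroupOf.2 hx))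
      have hex : ∀ x : K, ∃ y : K, x ∈ C.QQ → y ∈ C.QQ ∧ g * h.ll x * g⁻¹ = h.ll y := by
        intro x
        by_cases hx : x ∈ C.QQ
        · obtain ⟨y, hy, hyx⟩ := (hn' (h.ll x)).1 ⟨x, hx, rfl⟩
          exact ⟨y, fun _ => ⟨hy, hyx⟩⟩
        · exact ⟨1, fun h => absurd h hx⟩
      choose θ hθ using hex
      have hθz : ∀ b, θ (C.z b) = C.z b := by
        intro b
        obtain ⟨h1, h2⟩ := hθ (C.z b) (TT_le (z_mem_TT b))
        apply h.ll_inj (two_QQ K0 h1) (two_z b)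
        rw [← h2]
        have := hg b
        unfold z' at this
        rw [this, mul_inv_cancel_right]
      have hθm : ∀ x ∈ C.QQ, ∀ y ∈ C.QQ, θ (x * y) = θ x * θ y := by
        intro x hx y hy
        obtain ⟨h1, h2⟩ := hθ x hx
        obtain ⟨h3, h4⟩ := hθ y hy
        obtain ⟨h5, h6⟩ := hθ (x * y) (mul_mem hx hy)
        apply h.ll_inj (two_QQ K0 h5) (two_QQ K0 (mul_mem h1 h3))
        rw [h.ll_mul hP h1 h3, ← h2, ← h4, ← h6, h.ll_mul hP hx hy]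
        group
      have hθs : ∀ y ∈ C.QQ, ∃ x ∈ C.QQ, θ x = y := by
        intro y hy
        have h1 : g⁻¹ * h.ll y * g ∈ h.QG K0 := by
          rw [hn']
          have e : g * (g⁻¹ * h.ll y * g) * g⁻¹ = h.ll y := by group
          rw [e]
          exact ⟨y, hy, rfl⟩
        obtain ⟨x, hx, hxy⟩ := h1
        obtain ⟨h2, h3⟩ := hθ x hx
        refine ⟨x, hx, ?_⟩
        apply h.ll_inj (two_QQ K0 h2) (two_QQ K0 hy)
        rw [← h3, ← hxy]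
        group
      have hv10 : C.v (1, 0) ∈ C.QQ := TT_le (v_mem_TT _)
      obtain ⟨ht1, ht2⟩ := hθ _ hv10
      have hπ := plane_auto K0 hμ0 (fun x hx => (hθ x hx).1) hθm hθz hθs
      obtain ⟨e, he⟩ := K0.eq_mul_z ht1 hv10 (hπ.trans (K0.v _).symm)
      obtain ⟨x, hx⟩ := Core.exists_act C e
      have hxQ : x ∈ C.QQ := ⟨e, hx⟩
      -- `x'⁻¹ g` commutes with `v' (1,0)`
      have h1 : h.ll x * h.v' (1, 0) * (h.ll x)⁻¹ = g * h.v' (1, 0) * g⁻¹ := by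
        have h2 := h.conj_ll (h.toO.lf x) (two_v (C := C) (1, 0))
        rw [h.toO.φ_lf (two_QQ K0 hxQ), hx.2, emb_one, mul_one, ← he, ← ht2] at h2
        exact h2
      have h2 : ((h.ll x)⁻¹ * g) * h.v' (1, 0) = h.v' (1, 0) * ((h.ll x)⁻¹ * g) := by
        calc ((h.ll x)⁻¹ * g) * h.v' (1, 0) = (h.ll x)⁻¹ * (g * h.v' (1, 0) * g⁻¹) * g := by group
          _ = (h.ll x)⁻¹ * (h.ll x * h.v' (1, 0) * (h.ll x)⁻¹) * g := by rw [h1]
          _ = _ := by group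
      have h3 : (h.ll x)⁻¹ * g ∈ M := h.mem_of_comm_v' (by decide) h2
      have h4 : (g : G) ∈ M := by
        have e : g = h.ll x * ((h.ll x)⁻¹ * g) := by group
        rw [e]
        exact mul_mem (h.ll_mem x) h3
      obtain ⟨q, hq, d, hd, hqd⟩ := h.mem_of_M K0 hμ hg h4
      exact ⟨⟨q, fun b => h.QG_le_cz' K0 hq b⟩, hq, ⟨d, hDc d hd⟩, hd, Subtype.ext hqd⟩
    · rintro ⟨z, hz⟩ ⟨e, he⟩
      apply Subtype.ext
      have he' : z = h.z' e := he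
      show z * z = 1
      rw [he', h.z'_sq]
    · exact Subtype.ext (h.v'_sq _)
    · exact Subtype.ext (h.v'_sq _)
    · apply Subtype.ext
      show h.v' (1, 0) * h.v' (0, 1) = h.v' (0, 1) * h.v' (1, 0)
      rw [← h.v'_add, ← h.v'_add, add_comm]
    · intro x hx
      apply hfix ((1, 0) + (0, 1)) (by decide) x
      have : (⟨h.v' ((1, 0) + (0, 1)), hv _⟩ : h.cz') = ⟨h.v' (1, 0), hv _⟩ * ⟨h.v' (0, 1), hv _⟩ :=
        Subtype.ext (h.v'_add _ _)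
      rw [this]
      exact hx
  obtain ⟨q, hq, d, hd, hqd⟩ := main ⟨g, hg⟩
  exact ⟨q, hq, d, hd, congrArg Subtype.val hqd⟩

/-- an element of odd order in `Q' D` lies in `D` -/
theorem mem_DG_of_odd {q d : G} (hq : q ∈ h.QG K0) (hd : d ∈ h.DG) {n : ℕ} (hn : Odd n) (hqd : (q * d) ^ n = 1) :
    q = 1 := by
  obtain ⟨k, hk⟩ := h.two_QG K0 hq
  obtain ⟨r, hr, rfl⟩ := hq
  exact CGZ2.eq_of_odd (h.ll_DG hd) hk (pow_card_mem hd) h.DG_odd hn hqd

/-- an element normalising `Z'` normalises `D` -/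
theorem conj_DG [Finite K] (hμ : K0.μ = ⟨7⟩) {g : G} (hg : ∀ b, ∃ c, g⁻¹ * h.z' b * g = h.z' c) {d : G}
    (hd : d ∈ h.DG) : g * d * g⁻¹ ∈ h.DG := by
  have h1 : g * d * g⁻¹ ∈ h.cz' := by
    intro b
    obtain ⟨c, hc⟩ := hg b
    have h2 : d * h.z' c = h.z' c * d := (h.ll_DG hd).symm
    calc g * d * g⁻¹ * h.z' b = g * (d * (g⁻¹ * h.z' b * g)) * g⁻¹ := by group
      _ = g * (h.z' c * d) * g⁻¹ := by rw [hc, h2]
      _ = g * ((g⁻¹ * h.z' b * g) * d) * g⁻¹ := by rw [hc]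
      _ = _ := by group
  obtain ⟨q, hq, d', hd', hqd⟩ := h.cent_Z' K0 hμ h1
  have h2 : (q * d') ^ (Nat.card h.DG) = 1 := by
    rw [← hqd, conj_pow, pow_card_mem hd, mul_one, mul_inv_cancel]
  have h3 := h.mem_DG_of_odd K0 hq hd' h.DG_odd h2
  rw [hqd, h3, one_mul]
  exact hd'

end Cov

end Cfsg.Agent.RuC
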