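import Cfsg.Agent.Ru127.Total

/-!
# The counting argument on `Σ`, version with cores

Variant of `Ru127.Total` (helper127) in which the coordinates live on a subgroup `Q` (not on the whole
centraliser): every `c ∈ Σ` normalises every `b ∈ Σ`.
-/

set_option autoImplicit false

namespace Cfsg.Agent.RuC.Count2

open Cfsg.Agent.Ru127.Form Cfsg.Agent.Ru127.Fiber

variable {W F : Type} [AddCommGroup W] [AddCommGroup F]
variable {G : Type*} [Group G]

/-- coordinates on a subgroup `Q ≥ a` -/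
structure QC (D : Set G) (a Q : Subgroup G) (R : RuForm W F) (π : G → W) : Prop where
  le : a ≤ Q
  π_mul : ∀ x ∈ Q, ∀ y ∈ Q, π (x * y) = π x + π y
  π_surj : ∀ w, ∃ x ∈ Q, π x = w
  π_ker : ∀ x ∈ Q, (π x = 0 ↔ x ∈ a)
  card : Nat.card a = 8
  T_iff : ∀ x ∈ Q, (x ∈ D ↔ π x ∈ R.T)

/-- the setup of the counting argument -/
structure Setup (D : Set G) (S : Set (Subgroup G)) (z : G) (R : RuForm W F) : Prop where
  sq : ∀ d ∈ D, d * d = 1
  conj : ∀ a ∈ S, ∀ g, Commute g z → cj g a ∈ S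
  coord : ∀ a ∈ S, ∃ (Q : Subgroup G) (π : G → W), QC D a Q R π ∧ (∀ x ∈ Q, Commute x z ∧ cj x a = a) ∧
    (∀ d ∈ D, Commute d z → cj d a = a → d ∈ Q)
  exists_fix : ∀ d ∈ D, Commute d z → ∃ a ∈ S, cj d a = a
  unique : ∀ d ∈ D, Commute d z → ∀ a ∈ S, ∀ b ∈ S, cj d a = a → cj d b = b → a = b
  syl : ∀ a ∈ S, ∀ b ∈ S, a ≠ b → Nat.card (Sylow 2 (Bs z a b)) ≤ 3

section qc

variable {D : Set G} {a Q : Subgroup G} {R : RuForm W F} {π : G → W} (c : QC D a Q R π)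
include c

theorem π_one : π 1 = 0 := by
  have h := c.π_mul 1 (Subgroup.one_mem _) 1 (Subgroup.one_mem _)
  rw [one_mul] at h
  exact left_eq_add.1 h

theorem π_inv {x : G} (hx : x ∈ Q) : π x⁻¹ = π x := by
  have h := c.π_mul x hx x⁻¹ (Subgroup.inv_mem _ hx)
  rw [mul_inv_cancel, π_one c] at h
  have h2 := R.twoW (π x)
  exact (add_left_cancel (h2.trans h)).symm

theorem π_mem {y : G} (hy : y ∈ a) : π y = 0 := (c.π_ker y (c.le hy)).2 hy

theorem cardPre (S : Set W) : Nat.card {x : G // x ∈ Q ∧ π x ∈ S} = Nat.card S * 8 := by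
  choose s hs hπ using c.π_surj
  have e : (S × a) ≃ {x : G // x ∈ Q ∧ π x ∈ S} := by
    refine Equiv.ofBijective (fun p => ⟨s p.1 * p.2, ?_, ?_⟩) ⟨?_, ?_⟩
    · exact mul_mem (hs _) (c.le p.2.2)
    · rw [c.π_mul _ (hs _) _ (c.le p.2.2), hπ, π_mem c p.2.2, add_zero]
      exact p.1.2
    · rintro ⟨⟨w, hw⟩, y⟩ ⟨⟨w', hw'⟩, y'⟩ h
      simp only [Subtype.mk.injEq] at h
      have h1 : π (s w * y) = π (s w' * y') := by rw [h]
      rw [c.π_mul _ (hs _) _ (c.le y.2), hπ, π_mem c y.2, add_zero,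
        c.π_mul _ (hs _) _ (c.le y'.2), hπ, π_mem c y'.2, add_zero] at h1
      subst h1
      have h2 : y = y' := Subtype.ext (mul_left_cancel h)
      subst h2
      rfl
    · rintro ⟨x, hx, hxS⟩
      have h1 : (s (π x))⁻¹ * x ∈ a := by
        rw [← c.π_ker _ (mul_mem (Subgroup.inv_mem _ (hs _)) hx),
          c.π_mul _ (Subgroup.inv_mem _ (hs _)) _ hx, π_inv c (hs _), hπ, R.twoW]
      refine ⟨(⟨π x, hxS⟩, ⟨_, h1⟩), ?_⟩
      simp
  rw [← Nat.card_congr e, Nat.card_prod, c.card]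

theorem card_D : Nat.card {x : G // x ∈ Q ∧ x ∈ D} = 192 := by
  have h := cardPre c R.T
  have h2 : Nat.card R.T = 24 := R.cardT
  rw [h2] at h
  rw [show (192 : ℕ) = 24 * 8 by norm_num, ← h]
  apply Nat.card_congr
  refine Equiv.subtypeEquivRight (fun x => ?_)
  constructor
  · rintro ⟨h1, h2⟩; exact ⟨h1, (c.T_iff x h1).1 h2⟩
  · rintro ⟨h1, h2⟩; exact ⟨h1, (c.T_iff x h1).2 h2⟩

end qc

variable {D : Set G} {S : Set (Subgroup G)} {z : G} {R : RuForm W F} (h : Setup D S z R)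
include h

theorem cj_cj_self {d : G} (hd : d ∈ D) (a : Subgroup G) : cj d (cj d a) = a := by
  rw [← cj_mul, h.sq d hd, cj_one]

theorem exists_D {Y : Subgroup G} (hY : Y ∈ S) : ∃ d ∈ D, Commute d z ∧ cj d Y = Y := by
  obtain ⟨Q, π, c, h1, -⟩ := h.coord Y hY
  have h2 := card_D c
  have : Nonempty {x : G // x ∈ Q ∧ x ∈ D} := by
    by_contra hne
    rw [not_nonempty_iff] at hne
    rw [Nat.card_of_isEmpty] at h2
    norm_num at h2
  obtain ⟨d, h3, h4⟩ := this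
  exact ⟨d, h4, h1 d h3⟩

/-- action of a subgroup of `C(z)` on `S`. -/
@[reducible] def act (H : Subgroup G) (hH : ∀ x ∈ H, Commute x z) : MulAction H S where
  smul x Y := ⟨cj (x : G) Y.1, h.conj _ Y.2 _ (hH x x.2)⟩
  one_smul := by
    rintro ⟨Y, hY⟩
    exact Subtype.ext (cj_one Y)
  mul_smul := by
    rintro x y ⟨Y, hY⟩
    exact Subtype.ext (cj_mul _ _ Y)

theorem isPGroup_zpowers {d : G} (hd : d ∈ D) : IsPGroup 2 (Subgroup.zpowers d) :=
  Cfsg.Agent.Ru127.Total.isPGroup_zpowers_of_sq (h.sq d hd)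

theorem sig_odd [Finite G] {Y : Subgroup G} (hY : Y ∈ S) : ¬ 2 ∣ Nat.card S := by
  obtain ⟨d, hd, hdz, hdY⟩ := exists_D h hY
  have hH : ∀ x ∈ Subgroup.zpowers d, Commute x z := by
    intro x hx
    obtain ⟨k, rfl⟩ := Subgroup.mem_zpowers_iff.1 hx
    exact hdz.zpow_left k
  letI := act h (Subgroup.zpowers d) hH
  haveI : Fact (Nat.Prime 2) := ⟨Nat.prime_two⟩
  have h1 := (isPGroup_zpowers h hd).card_modEq_card_fixedPoints S
  have h2 : Nat.card (MulAction.fixedPoints (Subgroup.zpowers d) S) = 1 := by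
    rw [Nat.card_eq_one_iff_unique]
    constructor
    · constructor
      rintro ⟨a, ha⟩ ⟨b, hb⟩
      have ha' := congrArg Subtype.val (ha ⟨d, Subgroup.mem_zpowers d⟩)
      have hb' := congrArg Subtype.val (hb ⟨d, Subgroup.mem_zpowers d⟩)
      apply Subtype.ext
      apply Subtype.ext
      exact h.unique d hd hdz a a.2 b b.2 ha' hb'
    · refine ⟨⟨⟨Y, hY⟩, ?_⟩⟩
      rintro ⟨x, hx⟩
      apply Subtype.ext
      show cj x Y = Y
      have hle : Subgroup.zpowers d ≤ nor Y := by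
        rw [Subgroup.zpowers_le]; exact hdY
      exact hle hx
  rw [h2] at h1
  intro h3
  have h4 := (Nat.modEq_zero_iff_dvd.2 h3).symm.trans h1
  exact absurd h4 (by decide)

theorem exists_fixed [Finite G] {Y : Subgroup G} (hY : Y ∈ S) {H : Subgroup G}
    (hH : ∀ x ∈ H, Commute x z) (hp : IsPGroup 2 H) : ∃ c ∈ S, ∀ x ∈ H, cj x c = c := by
  letI := act h H hH
  haveI : Fact (Nat.Prime 2) := ⟨Nat.prime_two⟩
  obtain ⟨c, hc⟩ := hp.nonempty_fixed_point_of_prime_not_dvd_card S (sig_odd h hY)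
  refine ⟨c.1, c.2, fun x hx => ?_⟩
  have := hc ⟨x, hx⟩
  exact congrArg Subtype.val this

theorem no_D_B0 {a b : Subgroup G} (ha : a ∈ S) (hb : b ∈ S) (hab : a ≠ b) {d : G} (hd : d ∈ D)
    (hB : d ∈ B0 z a b) : False := by
  rw [mem_B0] at hB
  exact hab (h.unique d hd hB.1 a ha b hb hB.2.1 hB.2.2)

/-- the parts of the fibre -/
theorem parts [Finite G] {a b c : Subgroup G} (ha : a ∈ S) (hb : b ∈ S) (hab : a ≠ b)
    {Q : Subgroup G} {π : G → W} (cc : QC D c Q R π) (hQ : ∀ d ∈ D, Commute d z → cj d c = c → d ∈ Q)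
    {H : Subgroup G} (hH : H ≤ Bs z a b) (hHc : ∀ x ∈ H, cj x c = c) :
    Nat.card {d : G // d ∈ H ∧ d ∈ D ∧ cj d a = b} ≤ 64 ∧
    (Nat.card {d : G // d ∈ H ∧ d ∈ D ∧ cj d a = b} = 64 → ∀ i, ∃ e, (e ∈ H ∧ e ∈ D ∧ cj e a = b) ∧
      e ∈ Q ∧ π e ∈ R.V i ∧
      (∀ x ∈ Q, π x = π e → (x ∈ H ∧ x ∈ D ∧ cj x a = b)) ∧
      ∀ d, (d ∈ H ∧ d ∈ D ∧ cj d a = b) → π d ∈ R.V i → π d = π e) := by
  classical
  let Fb : Set G := {d | d ∈ H ∧ d ∈ D ∧ cj d a = b}
  let P : Fin 8 → Set G := fun i => {d | (d ∈ H ∧ d ∈ D ∧ cj d a = b) ∧ π d ∈ R.V i}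
  have hcent : ∀ d ∈ Fb, d ∈ Q :=
    fun d hd => hQ d hd.2.1 (hH hd.1).1 (hHc d hd.1)
  have hcover : Fb = ⋃ i ∈ (Finset.univ : Finset (Fin 8)), P i := by
    ext d
    simp only [Set.mem_iUnion, Finset.mem_univ, exists_true_left]
    constructor
    · intro hd
      obtain ⟨_, i, hi⟩ := (cc.T_iff d (hcent d hd)).1 hd.2.1
      exact ⟨i, hd, hi⟩
    · rintro ⟨i, hd, _⟩
      exact hd
  have hsame : ∀ i, ∀ d ∈ P i, ∀ e ∈ P i, π d = π e := by
    intro i d hd e he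
    have hdc := hcent d hd.1
    have hec := hcent e he.1
    by_contra hne
    have h1 : π (d * e) = π d + π e := cc.π_mul d hdc e hec
    have h2 : d * e ∈ D := by
      rw [cc.T_iff _ (mul_mem hdc hec)]
      refine ⟨?_, i, ?_⟩
      · rw [h1]
        intro h
        apply hne
        exact add_left_cancel ((h.trans (R.twoW (π d)).symm)).symm
      · rw [h1]; exact (R.V i).add_mem hd.2 he.2
    apply no_D_B0 h ha hb hab h2
    rw [mem_B0]
    have hda : cj d b = a := by rw [← hd.1.2.2]; exact cj_cj_self h hd.1.2.1 a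
    have hea : cj e b = a := by rw [← he.1.2.2]; exact cj_cj_self h he.1.2.1 a
    exact ⟨(hH (mul_mem hd.1.1 he.1.1)).1, by rw [cj_mul, he.1.2.2, hda],
      by rw [cj_mul, hea, hd.1.2.2]⟩
  have hcoset : ∀ w : W, ({x : G | x ∈ Q ∧ π x = w}).ncard = 8 := by
    intro w
    have h := cardPre cc {w}
    have h1 : Nat.card ({w} : Set W) = 1 := by simp
    rw [h1, one_mul] at h
    exact h
  have hP8 : ∀ i, (P i).ncard ≤ 8 := by
    intro i
    by_cases hne : (P i).Nonempty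
    · obtain ⟨e, he⟩ := hne
      rw [← hcoset (π e)]
      apply Set.ncard_le_ncard
      · intro d hd
        exact ⟨hcent d hd.1, hsame i d hd e he⟩
      · exact Set.toFinite _
    · rw [Set.not_nonempty_iff_eq_empty] at hne
      rw [hne]; simp
  have hFb : Nat.card {d : G // d ∈ H ∧ d ∈ D ∧ cj d a = b} = Fb.ncard := rfl
  have hle : Fb.ncard ≤ ∑ i, (P i).ncard := by
    rw [hcover]
    exact Finset.set_ncard_biUnion_le _ _
  have hsum : ∑ i, (P i).ncard ≤ ∑ i : Fin 8, 8 := Finset.sum_le_sum (fun i _ => hP8 i)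
  have h64 : (∑ i : Fin 8, 8) = 64 := by simp
  refine ⟨by rw [hFb]; omega, fun heq i => ?_⟩
  rw [hFb] at heq
  have hPi : (P i).ncard = 8 := by
    by_contra hne
    have hlt : (P i).ncard < 8 := lt_of_le_of_ne (hP8 i) hne
    have : ∑ i, (P i).ncard < ∑ i : Fin 8, 8 :=
      Finset.sum_lt_sum (fun i _ => hP8 i) ⟨i, Finset.mem_univ _, hlt⟩
    omega
  have hne : (P i).Nonempty := by
    rw [← Set.ncard_pos (Set.toFinite _)]; omega
  obtain ⟨e, he⟩ := hne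
  refine ⟨e, he.1, hcent e he.1, he.2, ?_, fun d hd hdi => hsame i d ⟨hd, hdi⟩ e he⟩
  intro x hx hxe
  have hsub : P i ⊆ {x : G | x ∈ Q ∧ π x = π e} := by
    intro d hd
    exact ⟨hcent d hd.1, hsame i d hd e he⟩
  have heqs : P i = {x : G | x ∈ Q ∧ π x = π e} := by
    apply Set.eq_of_subset_of_ncard_le hsub
    rw [hcoset, hPi]
  have : x ∈ P i := by rw [heqs]; exact ⟨hx, hxe⟩
  exact this.1

theorem card_fiber_le [Finite G] {a b : Subgroup G} (ha : a ∈ S) (hb : b ∈ S) (hab : a ≠ b) :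
    Nat.card {d : G // d ∈ D ∧ Commute d z ∧ cj d a = b} ≤ 192 ∧
    (Nat.card {d : G // d ∈ D ∧ Commute d z ∧ cj d a = b} = 192 →
      ∀ d, d ∈ D → Commute d z → cj d a = b → ∃ H ≤ Bs z a b, IsPGroup 2 H ∧ d ∈ H ∧
        Nat.card {x : G // x ∈ H ∧ x ∈ D ∧ cj x a = b} = 64) := by
  classical
  haveI : Fact (Nat.Prime 2) := ⟨Nat.prime_two⟩
  let Bz := Bs z a b
  let H : Sylow 2 Bz → Subgroup G := fun P => (P : Subgroup Bz).map Bz.subtype
  have hHle : ∀ P, H P ≤ Bs z a b := fun P => Subgroup.map_subtype_le _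
  have hHp : ∀ P, IsPGroup 2 (H P) := fun P => P.2.map _
  have hfinSyl : Finite (Sylow 2 Bz) := inferInstance
  letI : Fintype (Sylow 2 Bz) := Fintype.ofFinite _
  let Fs : Set G := {d | d ∈ D ∧ Commute d z ∧ cj d a = b}
  let Q : Sylow 2 Bz → Set G := fun P => {x | x ∈ H P ∧ x ∈ D ∧ cj x a = b}
  have hmem : ∀ d ∈ Fs, ∃ P, d ∈ H P := by
    intro d hd
    have hdB : d ∈ Bz := ⟨hd.2.1, Or.inr ⟨hd.2.2, by
      rw [← hd.2.2]; exact cj_cj_self h hd.1 a⟩⟩
    have hp : IsPGroup 2 (Subgroup.zpowers (⟨d, hdB⟩ : Bz)) :=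
      Cfsg.Agent.Ru127.Total.isPGroup_zpowers_of_sq (Subtype.ext (h.sq d hd.1))
    obtain ⟨P, hP⟩ := hp.exists_le_sylow
    exact ⟨P, ⟨d, hdB⟩, hP (Subgroup.mem_zpowers _), rfl⟩
  have hQ64 : ∀ P, (Q P).ncard ≤ 64 := by
    intro P
    obtain ⟨c, hc, hfix⟩ := exists_fixed h ha (H := H P)
      (fun x hx => (hHle P hx).1) (hHp P)
    obtain ⟨Qc, π, cc, -, hq⟩ := h.coord c hc
    exact (parts h ha hb hab cc hq (hHle P) hfix).1
  have hcover : Fs ⊆ ⋃ P ∈ (Finset.univ : Finset (Sylow 2 Bz)), Q P := by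
    intro d hd
    obtain ⟨P, hP⟩ := hmem d hd
    simp only [Set.mem_iUnion, Finset.mem_univ, exists_true_left]
    exact ⟨P, hP, hd.1, hd.2.2⟩
  have hle : Fs.ncard ≤ ∑ P, (Q P).ncard :=
    (Set.ncard_le_ncard hcover (Set.toFinite _)).trans (Finset.set_ncard_biUnion_le _ _)
  have hsum : ∑ P, (Q P).ncard ≤ ∑ P : Sylow 2 Bz, 64 := Finset.sum_le_sum (fun P _ => hQ64 P)
  have hcardsum : (∑ P : Sylow 2 Bz, 64) = Nat.card (Sylow 2 Bz) * 64 := by
    rw [Finset.sum_const, smul_eq_mul, Finset.card_univ, Nat.card_eq_fintype_card]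
  have hs3' : Nat.card (Sylow 2 Bz) ≤ 3 := h.syl a ha b hb hab
  have hFs : Nat.card {d : G // d ∈ D ∧ Commute d z ∧ cj d a = b} = Fs.ncard := rfl
  rw [hFs]
  refine ⟨by omega, fun heq => ?_⟩
  have hs : Nat.card (Sylow 2 Bz) = 3 := by omega
  intro d hd hdz hda
  obtain ⟨P, hP⟩ := hmem d ⟨hd, hdz, hda⟩
  refine ⟨H P, hHle P, hHp P, hP, ?_⟩
  show (Q P).ncard = 64
  by_contra hne'
  have hlt : (Q P).ncard < 64 := lt_of_le_of_ne (hQ64 P) hne'
  have : ∑ P, (Q P).ncard < ∑ P : Sylow 2 Bz, 64 :=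
    Finset.sum_lt_sum (fun P _ => hQ64 P) ⟨P, Finset.mem_univ _, hlt⟩
  omega

theorem card_self [Finite G] {a : Subgroup G} (ha : a ∈ S) :
    Nat.card {d : G // d ∈ D ∧ Commute d z ∧ cj d a = a} = 192 := by
  obtain ⟨Q, π, c, h1, h2⟩ := h.coord a ha
  rw [← card_D c]
  apply Nat.card_congr
  refine Equiv.subtypeEquivRight (fun x => ?_)
  constructor
  · rintro ⟨h3, h4, h5⟩
    exact ⟨h2 x h3 h4 h5, h3⟩
  · rintro ⟨h3, h4⟩
    exact ⟨h4, h1 x h3⟩

theorem card_DX [Finite G] :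
    Nat.card {d : G // d ∈ D ∧ Commute d z} = Nat.card S * 192 := by
  classical
  letI : Fintype S := Fintype.ofFinite _
  have hex : ∀ d : {d : G // d ∈ D ∧ Commute d z}, ∃ Y : S, cj (d : G) Y.1 = Y.1 := by
    rintro ⟨d, hd, hdz⟩
    obtain ⟨Y, hY, hdY⟩ := h.exists_fix d hd hdz
    exact ⟨⟨Y, hY⟩, hdY⟩
  choose g hg using hex
  have hgu : ∀ (d : {d : G // d ∈ D ∧ Commute d z}) (Y : S), cj (d : G) Y.1 = Y.1 → g d = Y := by
    intro d Y hY
    exact Subtype.ext (h.unique d d.2.1 d.2.2 (g d).1 (g d).2 Y.1 Y.2 (hg d) hY)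
  rw [← Nat.card_congr (Equiv.sigmaFiberEquiv g), Nat.card_sigma]
  have h192 : ∀ Y : S, Nat.card {d // g d = Y} = 192 := by
    intro Y
    rw [← card_self h Y.2]
    apply Nat.card_congr
    refine Equiv.ofBijective (fun x => ⟨x.1.1, x.1.2.1, x.1.2.2, ?_⟩) ⟨?_, ?_⟩
    · have := hg x.1
      rw [x.2] at this
      exact this
    · intro x y hxy
      simp only [Subtype.mk.injEq] at hxy
      exact Subtype.ext (Subtype.ext hxy)
    · rintro ⟨x, hxD, hxz, hx⟩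
      exact ⟨⟨⟨x, hxD, hxz⟩, hgu _ Y hx⟩, rfl⟩
  rw [Finset.sum_congr rfl (fun Y _ => h192 Y), Finset.sum_const, smul_eq_mul, Finset.card_univ,
    Nat.card_eq_fintype_card]

/-- all the fibres have exactly 192 elements. -/
theorem card_fiber_eq [Finite G] {a b : Subgroup G} (ha : a ∈ S) (hb : b ∈ S) (hab : a ≠ b) :
    Nat.card {d : G // d ∈ D ∧ Commute d z ∧ cj d a = b} = 192 := by
  classical
  letI : Fintype S := Fintype.ofFinite _
  have htot := card_DX h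
  let g : {d : G // d ∈ D ∧ Commute d z} → S := fun d => ⟨cj (d : G) a, h.conj _ ha _ d.2.2⟩
  rw [← Nat.card_congr (Equiv.sigmaFiberEquiv g), Nat.card_sigma] at htot
  have hfib : ∀ Y : S, Nat.card {d // g d = Y} =
      Nat.card {d : G // d ∈ D ∧ Commute d z ∧ cj d a = Y.1} := by
    intro Y
    apply Nat.card_congr
    refine Equiv.ofBijective (fun x => ⟨x.1.1, x.1.2.1, x.1.2.2, ?_⟩) ⟨?_, ?_⟩
    · exact congrArg Subtype.val x.2
    · intro x y hxy
      simp only [Subtype.mk.injEq] at hxy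
      exact Subtype.ext (Subtype.ext hxy)
    · rintro ⟨x, hxD, hxz, hxa⟩
      exact ⟨⟨⟨x, hxD, hxz⟩, Subtype.ext hxa⟩, rfl⟩
  have hle : ∀ Y : S, Nat.card {d // g d = Y} ≤ 192 := by
    intro Y
    rw [hfib]
    by_cases hY : a = Y.1
    · rw [← hY, card_self h ha]
    · exact (card_fiber_le h ha Y.2 hY).1
  by_contra hne
  have hlt : Nat.card {d // g d = (⟨b, hb⟩ : S)} < 192 := by
    rw [hfib]
    exact lt_of_le_of_ne (card_fiber_le h ha hb hab).1 hne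
  have hs : ∑ Y, Nat.card {d // g d = Y} < ∑ Y : S, 192 :=
    Finset.sum_lt_sum (fun Y _ => hle Y) ⟨⟨b, hb⟩, Finset.mem_univ _, hlt⟩
  rw [htot, Finset.sum_const, smul_eq_mul, Finset.card_univ, Nat.card_eq_fintype_card] at hs
  exact lt_irrefl _ hs

/-- every member of `S` normalises every member of `S`. -/
theorem norm [Finite G] {b c : Subgroup G} (hb : b ∈ S) (hc : c ∈ S) (hbc : b ≠ c) :
    ∀ y ∈ c, cj y b = b := by
  obtain ⟨d, hd, hdz, hdc⟩ := exists_D h hc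
  obtain ⟨Qc, π, cc, hQz, hQ⟩ := h.coord c hc
  -- a := d • b
  have hab : b ≠ cj d b := by
    intro h'
    exact hbc (h.unique d hd hdz b hb c hc h'.symm hdc)
  have ha : cj d b ∈ S := h.conj _ hb _ hdz
  obtain ⟨H, hH, hHp, hdH, h64⟩ := (card_fiber_le h hb ha hab).2
    (card_fiber_eq h hb ha hab) d hd hdz rfl
  obtain ⟨c', hc', hfix⟩ := exists_fixed h hb (H := H) (fun x hx => (hH hx).1) hHp
  have hcc' : c' = c := h.unique d hd hdz c' hc' c hc (hfix d hdH) hdc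
  subst hcc'
  have hparts := (parts h hb ha hab cc hQ hH hfix).2 h64
  intro y hy
  have hdQ : d ∈ Qc := hQ d hd hdz hdc
  obtain ⟨_, i, hi⟩ := (cc.T_iff d hdQ).1 hd
  obtain ⟨e, he, hec, hei, hall, hsame⟩ := hparts i
  have hde := hsame d ⟨hdH, hd, rfl⟩ hi
  have hyc := cc.le hy
  have h1 := hall (d * y) (mul_mem hdQ hyc) (by
    rw [cc.π_mul d hdQ y hyc, π_mem cc hy, add_zero, hde])
  have h2 : cj d (cj y b) = cj d b := by rw [← cj_mul]; exact h1.2.2
  have h3 := congrArg (cj d⁻¹) h2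
  rwa [cj_inv_cj, cj_inv_cj] at h3

end Cfsg.Agent.RuC.Count2
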