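import Cfsg.Agent.RuC.CZ
import Cfsg.Agent.RuB.Count

/-!
# The end of the core argument: `C_G(z') ≤ M` implies `M = ⊤`
-/

set_option autoImplicit false
set_option Elab.async false

namespace Cfsg.Agent.RuC

open Subgroup Cfsg.Agent.RuB Cfsg.Agent.RuB.Core Cfsg.Agent.RuB.NormZ Cfsg.Agent.RuB.Count

namespace Cov

variable {G K : Type*} [Group G] [Group K] {C : Core K} {M : Subgroup G} {φ : M →* K} (h : Cov C M φ)

theorem v'_mem (a : A4) : h.v' a ∈ M := h.ll_mem _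

theorem z'_mem (b : K8) : h.z' b ∈ M := h.ll_mem _

theorem φ_z' (b : K8) : φ ⟨h.z' b, h.z'_mem b⟩ = C.z b := h.toO.φ_lf (two_z b)

theorem φ_v' (a : A4) : φ ⟨h.v' a, h.v'_mem a⟩ = C.v a := h.toO.φ_lf (two_v a)

/-- the classes of `z'` and `v'` are different in `G` -/
theorem no_fus [Finite G] [Finite K] (K0 : Coord C) {a : A4} (ha : a ≠ 0) (b : K8) (g : G) :
    g * h.z' b * g⁻¹ ≠ h.v' a := by
  intro hg
  have hP := isPGroup_QQ K0
  have hc : ∀ q ∈ C.QQ, (g * h.ll q * g⁻¹) * h.v' a = h.v' a * (g * h.ll q * g⁻¹) := by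
    intro q hq
    have h1 := h.QG_le_cz' K0 ⟨q, hq, rfl⟩ b
    rw [← hg]
    calc g * h.ll q * g⁻¹ * (g * h.z' b * g⁻¹) = g * (h.ll q * h.z' b) * g⁻¹ := by group
      _ = g * (h.z' b * h.ll q) * g⁻¹ := by rw [h1]
      _ = _ := by group
  have hM : ∀ q ∈ C.QQ, g * h.ll q * g⁻¹ ∈ M := fun q hq => h.mem_of_comm_v' ha (hc q hq)
  let f : C.QQ →* centralizer ({C.v a} : Set K) := MonoidHom.mk'
    (fun q => ⟨φ ⟨g * h.ll q * g⁻¹, hM q q.2⟩, mem_centralizer_singleton_iff.2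
      ((h.comm_ll (g := ⟨g * h.ll q * g⁻¹, hM q q.2⟩) (two_v a)).1 (hc q q.2))⟩) (by
      intro x y
      apply Subtype.ext
      show φ ⟨g * h.ll (x * y : K) * g⁻¹, _⟩ = φ ⟨g * h.ll x * g⁻¹, _⟩ * φ ⟨g * h.ll y * g⁻¹, _⟩
      rw [← map_mul]
      congr 1
      apply Subtype.ext
      show g * h.ll (x * y : K) * g⁻¹ = (g * h.ll x * g⁻¹) * (g * h.ll y * g⁻¹)
      rw [h.ll_mul hP x.2 y.2]
      group)
  have hf : Function.Injective f := by
    rw [injective_iff_map_eq_one]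
    rintro ⟨q, hq⟩ hq1
    have h1 : φ ⟨g * h.ll q * g⁻¹, hM q hq⟩ = 1 := congrArg Subtype.val hq1
    have h2 : Two (⟨g * h.ll q * g⁻¹, hM q hq⟩ : M) := two_coe.1 ((h.two_ll q).conj g)
    have h3 := h.toO.two_unique h2 two_one (by rw [h1, map_one])
    have h4 : g * h.ll q * g⁻¹ = 1 := congrArg Subtype.val h3
    have h5 : h.ll q = h.ll 1 := by
      rw [h.ll_one]
      calc h.ll q = g⁻¹ * (g * h.ll q * g⁻¹) * g := by group
        _ = 1 := by rw [h4]; group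
    exact Subtype.ext (h.ll_inj (two_QQ K0 hq) two_one h5)
  have h1 := card_dvd_of_injective f hf
  rw [NormZ.card_QQ K0, Local.card_cent_v ha] at h1
  exact absurd h1 (by decide)

/-- the involutions of `C_G(v')` -/
theorem inv_cases [Finite G] [Finite K] {a : A4} (ha : a ≠ 0) {j : G} (hj : j * h.v' a = h.v' a * j)
    (hjj : j * j = 1) (hj1 : j ≠ 1) :
    (∃ m ∈ M, ∃ b, b ≠ 0 ∧ j = m * h.v' b * m⁻¹) ∨
      (∃ m ∈ M, j = m * h.z' 1 * m⁻¹ ∧ m * h.v' a = h.v' a * m) := by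
  have hjM : j ∈ M := h.mem_of_comm_v' ha hj
  have hj2 : Two (⟨j, hjM⟩ : M) := two_of_sq (Subtype.ext hjj)
  have hlift : ∀ (k : K), φ ⟨j, hjM⟩ = k → j = h.ll k := fun k hk => (h.ll_eq hj2 hk).symm
  have hc := (h.comm_ll (g := ⟨j, hjM⟩) (two_v a)).1 hj
  have hkk : φ ⟨j, hjM⟩ * φ ⟨j, hjM⟩ = 1 := by
    rw [← map_mul]
    have : (⟨j, hjM⟩ * ⟨j, hjM⟩ : M) = 1 := Subtype.ext hjj
    rw [this, map_one]
  have hk1 : φ ⟨j, hjM⟩ ≠ 1 := by
    intro hh
    apply hj1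
    have := hlift 1 hh
    rwa [h.ll_one] at this
  obtain ⟨b, l, hl, hk⟩ := C.cent a ha _ hc
  have hll : l * l = 1 := by
    have h1 := C.v_comm b l hl
    calc l * l = (C.v b * C.v b) * (l * l) := by rw [C.v_sq, one_mul]
      _ = C.v b * (C.v b * l) * l := by group
      _ = C.v b * (l * C.v b) * l := by rw [h1]
      _ = C.v b * l * (C.v b * l) := by group
      _ = 1 := by rw [← hk]; exact hkk
  by_cases hl1 : l = 1
  · left
    subst hl1
    rw [mul_one] at hk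
    have hb : b ≠ 0 := by
      rintro rfl
      rw [C.v_zero] at hk
      exact hk1 hk
    refine ⟨1, one_mem _, b, hb, ?_⟩
    rw [hlift _ hk]
    unfold v'
    group
  have hInv : InvL C l := ⟨hl, hll, hl1⟩
  by_cases hb : b = 0
  · right
    subst hb
    rw [C.v_zero, one_mul] at hk
    obtain ⟨m, hm, hml⟩ := exists_conj_L hInv
    obtain ⟨m', hm'⟩ := h.surj m
    refine ⟨m', m'.2, ?_, ?_⟩
    · rw [hlift _ hk]
      unfold z'
      rw [h.conj_ll m' (two_z 1), hm', hml]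
    · exact (h.comm_ll (two_v a)).2 (by rw [hm', C.v_comm a m hm])
  · left
    obtain ⟨x, hx⟩ := exists_grow' hb hInv
    obtain ⟨x', hx'⟩ := h.surj x
    refine ⟨x', x'.2, b, hb, ?_⟩
    rw [hlift _ hk]
    unfold v'
    rw [h.conj_ll x' (two_v b), hx', hx]

/-- conjugates of `z'` lie in `M` if `C_G(z') ≤ M` -/
theorem conj_z'_mem [Finite G] [Finite K] (K0 : Coord C) (hz : ∀ g, g * h.z' 1 = h.z' 1 * g → g ∈ M) (g : G) :
    g * h.z' 1 * g⁻¹ ∈ M := by
  set y := g * h.z' 1 * g⁻¹ with hy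
  have ha : ((1, 0) : A4) ≠ 0 := by decide
  have hyy : y * y = 1 := by
    calc y * y = g * (h.z' 1 * h.z' 1) * g⁻¹ := by rw [hy]; group
      _ = 1 := by rw [h.z'_sq, mul_one, mul_inv_cancel]
  have hvv := h.v'_sq (1, 0)
  obtain ⟨k, hk0, hk1, hk2⟩ := exists_half hyy hvv (by
    intro e he
    apply h.no_fus K0 ha 1 (e * g)
    rw [← he, hy]
    group)
  set j := (y * h.v' (1, 0)) ^ k with hj
  have hjm : j ∈ zpowers (y * h.v' (1, 0)) := ⟨k, by rw [hj]; simp⟩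
  have c1 := comm_of_mem hyy hvv hjm hk1
  have c2 := comm_of_mem' hyy hvv hjm hk1
  have key : ∀ m ∈ M, ∀ x : G, j = m * x * m⁻¹ → (∀ e, e * x = x * e → e ∈ M) → y ∈ M := by
    intro m hm x hx hcx
    have h1 : (m⁻¹ * y * m) * x = x * (m⁻¹ * y * m) := by
      calc (m⁻¹ * y * m) * x = m⁻¹ * (y * (m * x * m⁻¹)) * m := by group
        _ = m⁻¹ * ((m * x * m⁻¹) * y) * m := by rw [← hx, c1]
        _ = _ := by group
    have h2 := hcx _ h1
    have e : y = m * (m⁻¹ * y * m) * m⁻¹ := by group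
    rw [e]
    exact mul_mem (mul_mem hm h2) (inv_mem hm)
  rcases h.inv_cases ha c2.symm hk1 hk2 with ⟨m, hm, b, hb, h1⟩ | ⟨m, hm, h1, -⟩
  · exact key m hm _ h1 (fun e he => h.mem_of_comm_v' hb he)
  · exact key m hm _ h1 hz

/-- the closing argument -/
theorem eq_top_of [Finite G] [Finite K] [IsSimpleGroup K] (K0 : Coord C)
    (H2 : ∀ g, (∀ d, d ∈ h.DG ↔ g * d * g⁻¹ ∈ h.DG) → g ∈ M)
    (hz : ∀ g, g * h.z' 1 = h.z' 1 * g → g ∈ M) : M = ⊤ := by
  -- the normal closure of `z'`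
  have hN : normalClosure ({h.z' 1} : Set G) ≤ M := by
    rw [normalClosure, closure_le]
    intro y hy
    rw [Group.mem_conjugatesOfSet_iff] at hy
    obtain ⟨a, ha, hc⟩ := hy
    rw [Set.mem_singleton_iff] at ha
    subst ha
    obtain ⟨g, rfl⟩ := isConj_iff.1 hc
    exact h.conj_z'_mem K0 hz g
  have hDN : ∀ d ∈ h.DG, ∀ n ∈ normalClosure ({h.z' 1} : Set G), d * n = n * d := by
    intro d hd n hn
    have h1 : normalClosure ({h.z' 1} : Set G) ≤ centralizer {d} := by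
      rw [normalClosure, closure_le]
      intro y hy
      have hyN : y ∈ M := hN (subset_closure hy)
      rw [Group.mem_conjugatesOfSet_iff] at hy
      obtain ⟨a, ha, hc⟩ := hy
      rw [Set.mem_singleton_iff] at ha
      subst ha
      obtain ⟨g, rfl⟩ := isConj_iff.1 hc
      obtain ⟨hd1, hd2⟩ := h.mem_DG.1 hd
      have h2 : Two (⟨g * h.z' 1 * g⁻¹, hyN⟩ : M) := two_coe.1 ((two_of_sq (h.z'_sq 1)).conj g)
      have h3 := h.toO.two_comm_ker h2 (d := ⟨d, hd1⟩) hd2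
      exact mem_centralizer_singleton_iff.2 (congrArg Subtype.val h3)
    exact (mem_centralizer_singleton_iff.1 (h1 hn)).symm
  -- its image
  let Y : Subgroup K :=
    { carrier := {k | ∃ n : M, (n : G) ∈ normalClosure ({h.z' 1} : Set G) ∧ φ n = k}
      mul_mem' := by
        rintro _ _ ⟨x, hx, rfl⟩ ⟨y, hy, rfl⟩
        exact ⟨x * y, mul_mem hx hy, map_mul φ _ _⟩
      one_mem' := ⟨1, one_mem _, map_one φ⟩
      inv_mem' := by
        rintro _ ⟨x, hx, rfl⟩
        exact ⟨x⁻¹, inv_mem hx, map_inv φ _⟩ }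
  have hYn : Y.Normal := by
    refine ⟨?_⟩
    rintro _ ⟨x, hx, rfl⟩ k
    obtain ⟨m, rfl⟩ := h.surj k
    exact ⟨m * x * m⁻¹, normalClosure_normal.conj_mem _ hx _, by rw [map_mul, map_mul, map_inv]⟩
  have hYtop : Y = ⊤ := by
    refine (IsSimpleGroup.eq_bot_or_eq_top_of_normal Y hYn).resolve_left ?_
    intro hb
    have h1 : C.z 1 ∈ Y := ⟨⟨h.z' 1, h.z'_mem 1⟩, subset_normalClosure rfl, h.φ_z' 1⟩
    rw [hb, mem_bot] at h1
    exact one_ne_zero (C.z_eq_one h1)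
  have hcen : ∀ k : K, (∀ l, k * l = l * k) → k = 1 := by
    intro k hk
    rcases IsSimpleGroup.eq_bot_or_eq_top_of_normal (center K) inferInstance with h1 | h1
    · have : k ∈ center K := mem_center_iff.2 (fun l => (hk l).symm)
      rw [h1, mem_bot] at this
      exact this
    · exfalso
      obtain ⟨x, hx⟩ := Core.exists_act C 1
      have h2 := hx.2 (1, 0)
      have h3 : C.v (1, 0) ∈ center K := by rw [h1]; exact mem_top _
      rw [mem_center_iff.1 h3 x, mul_inv_cancel_right, emb_one, mul_one] at h2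
      exact one_ne_zero (C.z_eq_one (left_eq_mul.1 h2))
  have hmem : ∀ g, (∀ n ∈ normalClosure ({h.z' 1} : Set G), g * n = n * g) → g ∈ h.DG := by
    intro g hg
    have hgM : g ∈ M := hz g (hg _ (subset_normalClosure rfl))
    rw [h.mem_DG]
    refine ⟨hgM, hcen _ (fun l => ?_)⟩
    have hl : l ∈ Y := by rw [hYtop]; exact mem_top _
    obtain ⟨n, hn, rfl⟩ := hl
    rw [← map_mul, ← map_mul]
    congr 1
    exact Subtype.ext (hg _ hn)
  have hconj : ∀ g d, d ∈ h.DG → g * d * g⁻¹ ∈ h.DG := by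
    intro g d hd
    apply hmem
    intro n hn
    have h1 : g⁻¹ * n * g ∈ normalClosure ({h.z' 1} : Set G) := by
      have := normalClosure_normal.conj_mem n hn g⁻¹
      rwa [inv_inv] at this
    have h2 := hDN d hd _ h1
    calc g * d * g⁻¹ * n = g * (d * (g⁻¹ * n * g)) * g⁻¹ := by group
      _ = g * ((g⁻¹ * n * g) * d) * g⁻¹ := by rw [h2]
      _ = _ := by group
  rw [eq_top_iff]
  intro g _
  apply H2
  intro d
  constructor
  · exact hconj g d
  · intro hd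
    have := hconj g⁻¹ _ hd
    have e : g⁻¹ * (g * d * g⁻¹) * g⁻¹⁻¹ = d := by group
    rwa [e] at this

end Cov

end Cfsg.Agent.RuC
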