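import Cfsg.Agent.RuC.End

/-!
# The analogue of `H2` in `G`

An involution of the `v'`-class commuting with `z' b` is conjugate to `v' a` in `C_G(z' b)`, and the 2-elements
commuting with `v' a` and `z' b` lie in `Q'`.
-/

set_option autoImplicit false
set_option Elab.async false

namespace Cfsg.Agent.RuC

open Subgroup Cfsg.Agent.RuB Cfsg.Agent.RuB.Core Cfsg.Agent.RuB.NormZ Cfsg.Agent.RuB.Count

namespace Cov

variable {G K : Type*} [Group G] [Group K] {C : Core K} {M : Subgroup G} {φ : M →* K} (h : Cov C M φ)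

include h in
/-- the torus acts transitively on the `z' b` -/
theorem exists_torus' {b : K8} (hb : b ≠ 0) :
    ∃ n ∈ M, n * h.z' b * n⁻¹ = h.z' 1 ∧ ∀ a, n * h.v' a = h.v' a * n := by
  have hk0 : (b⁻¹) ^ 2 ≠ 0 := pow_ne_zero _ (inv_ne_zero hb)
  obtain ⟨n, hn⟩ := h.surj (C.dk (Units.mk0 _ hk0))
  refine ⟨n, n.2, ?_, fun a => ?_⟩
  · unfold z'
    rw [h.conj_ll n (two_z b), hn, C.dk_z]
    congr 2
    show b * ((b⁻¹) ^ 2) ^ 4 = 1
    rw [← pow_mul, K8.pow_eight, mul_inv_cancel₀ hb]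
  · exact (h.comm_ll (two_v a)).2 (by rw [hn, C.dk_v_comm])

theorem z'_eq_one {b : K8} (hb : h.z' b = 1) : b = 0 := by
  have h1 : h.ll (C.z b) = h.ll 1 := by rw [h.ll_one]; exact hb
  exact C.z_eq_one (h.ll_inj (two_z b) two_one h1)

/-- a `v'`-involution commuting with `z' b` is conjugate to `v' a` in `C_G(z' b)` -/
theorem htwo [Finite G] [Finite K] (K0 : Coord C) {a : A4} (ha : a ≠ 0) {b : K8} (hb : b ≠ 0) {g : G}
    (hc : (g * h.v' a * g⁻¹) * h.z' b = h.z' b * (g * h.v' a * g⁻¹)) :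
    ∃ c : G, c * h.z' b = h.z' b * c ∧ c * h.v' a * c⁻¹ = g * h.v' a * g⁻¹ := by
  have h1 : (g⁻¹ * h.z' b * g) * h.v' a = h.v' a * (g⁻¹ * h.z' b * g) := by
    calc (g⁻¹ * h.z' b * g) * h.v' a = g⁻¹ * (h.z' b * (g * h.v' a * g⁻¹)) * g := by group
      _ = g⁻¹ * ((g * h.v' a * g⁻¹) * h.z' b) * g := by rw [hc]
      _ = _ := by group
  have h2 : (g⁻¹ * h.z' b * g) * (g⁻¹ * h.z' b * g) = 1 := by
    calc (g⁻¹ * h.z' b * g) * (g⁻¹ * h.z' b * g) = g⁻¹ * (h.z' b * h.z' b) * g := by group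
      _ = 1 := by rw [h.z'_sq, mul_one, inv_mul_cancel]
  have h3 : g⁻¹ * h.z' b * g ≠ 1 := by
    intro h3
    apply hb
    apply h.z'_eq_one
    calc h.z' b = g * (g⁻¹ * h.z' b * g) * g⁻¹ := by group
      _ = 1 := by rw [h3, mul_one, mul_inv_cancel]
  rcases h.inv_cases ha h1 h2 h3 with ⟨m, _, b', hb', h4⟩ | ⟨m, _, h4, h5⟩
  · exfalso
    apply h.no_fus K0 hb' b (m⁻¹ * g⁻¹)
    calc m⁻¹ * g⁻¹ * h.z' b * (m⁻¹ * g⁻¹)⁻¹ = m⁻¹ * (g⁻¹ * h.z' b * g) * m := by group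
      _ = m⁻¹ * (m * h.v' b' * m⁻¹) * m := by rw [h4]
      _ = h.v' b' := by group
  · obtain ⟨n, _, hn1, hn2⟩ := h.exists_torus' hb
    have h6 : (g * m * n) * h.z' b * (g * m * n)⁻¹ = h.z' b := by
      calc (g * m * n) * h.z' b * (g * m * n)⁻¹ = g * (m * (n * h.z' b * n⁻¹) * m⁻¹) * g⁻¹ := by group
        _ = g * (g⁻¹ * h.z' b * g) * g⁻¹ := by rw [hn1, h4]
        _ = h.z' b := by group
    refine ⟨g * m * n, mul_inv_eq_iff_eq_mul.1 h6, ?_⟩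
    calc g * m * n * h.v' a * (g * m * n)⁻¹ = g * m * (n * h.v' a) * n⁻¹ * m⁻¹ * g⁻¹ := by group
      _ = g * m * (h.v' a * n) * n⁻¹ * m⁻¹ * g⁻¹ := by rw [hn2]
      _ = g * (m * h.v' a) * m⁻¹ * g⁻¹ := by group
      _ = g * (h.v' a * m) * m⁻¹ * g⁻¹ := by rw [h5]
      _ = _ := by group

/-- elements commuting with `v' a` and `z' b` -/
theorem exists_of_comm [Finite G] {a : A4} (ha : a ≠ 0) {b : K8} (hb : b ≠ 0) {x : G}
    (h1 : x * h.v' a = h.v' a * x) (h2 : x * h.z' b = h.z' b * x) :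
    ∃ hx : x ∈ M, φ ⟨x, hx⟩ ∈ C.TT := by
  have hxM : x ∈ M := h.mem_of_comm_v' ha h1
  refine ⟨hxM, ?_⟩
  have h3 := (h.comm_ll (g := ⟨x, hxM⟩) (two_v a)).1 h1
  have h4 := (h.comm_ll (g := ⟨x, hxM⟩) (two_z b)).1 h2
  obtain ⟨b', a', f', h5⟩ := Core.eq_of_comm ha hb h3 h4
  rw [h5]
  exact mem_TT_of

/-- a 2-element commuting with `v' a` and `z' b` lies in `Q'` -/
theorem htwo' [Finite G] (K0 : Coord C) {a : A4} (ha : a ≠ 0) {b : K8} (hb : b ≠ 0) {x : G} (hx : Two x)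
    (h1 : x * h.v' a = h.v' a * x) (h2 : x * h.z' b = h.z' b * x) : x ∈ h.QG K0 := by
  obtain ⟨hxM, h3⟩ := h.exists_of_comm ha hb h1 h2
  exact ⟨_, TT_le h3, (h.ll_eq (y := ⟨x, hxM⟩) (two_coe.1 hx) rfl).symm⟩

end Cov

end Cfsg.Agent.RuC
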