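import Cfsg.Agent.Ru127.Fiber

/-!
# The number of Sylow 2-subgroups of `Bs z a b` is at most 3
-/

set_option autoImplicit false

namespace Cfsg.Agent.RuC.Syl

open Subgroup Cfsg.Agent.Ru127.Form Cfsg.Agent.Ru127.Fiber

/-- `P` a Sylow 2-subgroup centralised by `E` of odd order, `|H| ∣ 2 ^ 15 * 3 * |E|` -/
theorem card_sylow_le_of {H : Type*} [Group H] [Finite H] (P : Sylow 2 H) (E : Subgroup H)
    (hcomm : ∀ e ∈ E, ∀ p ∈ (P : Subgroup H), e * p = p * e)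
    (hcard : Nat.card H ∣ 2 ^ 15 * 3 * Nat.card E) : Nat.card (Sylow 2 H) ≤ 3 := by
  have : Fact (Nat.Prime 2) := ⟨Nat.prime_two⟩
  have hs := P.card_eq_index_normalizer
  rw [hs]
  set N := normalizer ((P : Subgroup H) : Set H) with hN
  have hEN : E ≤ N := by
    intro e he
    rw [hN, mem_normalizer_iff]
    intro x
    have key : ∀ e ∈ E, ∀ x ∈ (P : Subgroup H), e * x * e⁻¹ ∈ (P : Subgroup H) := by
      intro e he x hx
      rw [hcomm e he x hx, mul_inv_cancel_right]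
      exact hx
    constructor
    · intro hx
      exact key e he x hx
    · intro hx
      have := key e⁻¹ (inv_mem he) _ hx
      have e1 : e⁻¹ * (e * x * e⁻¹) * e⁻¹⁻¹ = x := by group
      rwa [e1] at this
  obtain ⟨j, hj⟩ := Subgroup.card_dvd_of_le hEN
  have hmul := N.card_mul_index
  have hpos : 0 < Nat.card E := Nat.card_pos
  have h1 : N.index * j ∣ 2 ^ 15 * 3 := by
    have h2 : Nat.card E * (N.index * j) ∣ Nat.card E * (2 ^ 15 * 3) := by
      have e1 : Nat.card E * (N.index * j) = Nat.card H := by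
        rw [← hmul, hj]; ring
      rw [e1, mul_comm (Nat.card E)]
      exact hcard
    exact Nat.dvd_of_mul_dvd_mul_left hpos h2
  have h3 : N.index ∣ 2 ^ 15 * 3 := (Dvd.intro j rfl).trans h1
  have h4 : ¬ 2 ∣ N.index := by
    intro h
    have h5 : N.index ∣ (P : Subgroup H).index := Subgroup.index_dvd_of_le le_normalizer
    exact P.not_dvd_index (h.trans h5)
  have h5 : Nat.Coprime N.index (2 ^ 15) :=
    ((Nat.prime_two.coprime_iff_not_dvd.2 h4).symm).pow_right 15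
  exact Nat.le_of_dvd (by norm_num) (h5.dvd_of_dvd_mul_left h3)

variable {G : Type*} [Group G] [Finite G] {z : G} {a b : Subgroup G}

omit [Finite G] in
theorem not_B0 {x : G} (hx : x ∈ Bs z a b) (hx' : x ∉ B0 z a b) : cj x a = b ∧ cj x b = a := by
  rcases hx.2 with h | h
  · exact absurd (mem_B0.2 ⟨hx.1, h⟩) hx'
  · exact h

omit [Finite G] in
theorem mul_mem_B0 {x y : G} (hx : x ∈ Bs z a b) (hx' : x ∉ B0 z a b) (hy : y ∈ Bs z a b) (hy' : y ∉ B0 z a b) :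
    x * y ∈ B0 z a b := by
  obtain ⟨h1, h2⟩ := not_B0 hx hx'
  obtain ⟨h3, h4⟩ := not_B0 hy hy'
  exact mem_B0.2 ⟨hx.1.mul_left hy.1, by rw [cj_mul, h3, h2], by rw [cj_mul, h4, h1]⟩

theorem card_sylow_le {Ea Eb : Subgroup G} (hEa : Ea ≤ B0 z a b) (hEb : Eb ≤ B0 z a b)
    (hna : ∀ g ∈ B0 z a b, ∀ x ∈ Ea, g * x * g⁻¹ ∈ Ea) (hnb : ∀ g ∈ B0 z a b, ∀ x ∈ Eb, g * x * g⁻¹ ∈ Eb)
    (hca : ∀ g ∈ B0 z a b, ∀ n : ℕ, g ^ (2 ^ n) = 1 → ∀ x ∈ Ea, g * x = x * g)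
    (hcb : ∀ g ∈ B0 z a b, ∀ n : ℕ, g ^ (2 ^ n) = 1 → ∀ x ∈ Eb, g * x = x * g)
    (hsw : ∀ g ∈ Bs z a b, g ∉ B0 z a b → ∀ x ∈ Ea, g * x * g⁻¹ ∈ Eb)
    (hcard : Nat.card (B0 z a b) ∣ 2 ^ 14 * 3 * Nat.card Ea)
    (h : Ea ⊓ Eb = ⊥ ∨ (Ea = Eb ∧ ∀ g ∈ Bs z a b, ∀ n : ℕ, g ^ (2 ^ n) = 1 → ∀ x ∈ Ea, g * x = x * g)) :
    Nat.card (Sylow 2 (Bs z a b)) ≤ 3 := by
  have hfact : Fact (Nat.Prime 2) := ⟨Nat.prime_two⟩
  obtain ⟨P⟩ : Nonempty (Sylow 2 (Bs z a b)) := inferInstance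
  have hBs : Nat.card (Bs z a b) ∣ 2 ^ 15 * 3 * Nat.card Ea := by
    have h1 := (card_Bs_dvd z a b).trans (Nat.mul_dvd_mul_left 2 hcard)
    have e : 2 * (2 ^ 14 * 3 * Nat.card Ea) = 2 ^ 15 * 3 * Nat.card Ea := by ring
    rwa [e] at h1
  have hP2 : ∀ p : Bs z a b, p ∈ (P : Subgroup (Bs z a b)) → ∃ n : ℕ, (p : G) ^ (2 ^ n) = 1 := by
    intro p hp
    obtain ⟨n, hn⟩ := P.2 ⟨p, hp⟩
    refine ⟨n, ?_⟩
    have := congrArg Subtype.val hn
    exact congrArg Subtype.val this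
  -- it suffices to find a subgroup of order `|Ea|`
  suffices hE : ∃ E : Subgroup G, E ≤ Bs z a b ∧ Nat.card E = Nat.card Ea ∧
      ∀ e ∈ E, ∀ p : Bs z a b, p ∈ (P : Subgroup (Bs z a b)) → e * p = p * e by
    obtain ⟨E, hEB, hcE, hcomm⟩ := hE
    refine card_sylow_le_of P (E.subgroupOf (Bs z a b)) ?_ ?_
    · intro e he p hp
      exact Subtype.ext (hcomm e he p hp)
    · have : Nat.card (E.subgroupOf (Bs z a b)) = Nat.card E :=
        Nat.card_congr (subgroupOfEquivOfLe hEB).toEquiv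
      rw [this, hcE]
      exact hBs
  rcases h with h | ⟨-, h⟩
  swap
  · refine ⟨Ea, hEa.trans (B0_le_Bs z a b), rfl, ?_⟩
    intro e he p hp
    obtain ⟨n, hn⟩ := hP2 p hp
    exact (h p p.2 n hn e he).symm
  by_cases hPB : ∀ p : Bs z a b, p ∈ (P : Subgroup (Bs z a b)) → (p : G) ∈ B0 z a b
  · refine ⟨Ea, hEa.trans (B0_le_Bs z a b), rfl, ?_⟩
    intro e he p hp
    obtain ⟨n, hn⟩ := hP2 p hp
    exact (hca p (hPB p hp) n hn e he).symm
  push Not at hPB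
  obtain ⟨t, ht, htB⟩ := hPB
  -- `Ea` and `Eb` commute
  have hcomm : ∀ x ∈ Ea, ∀ y ∈ Eb, x * y = y * x := by
    intro x hx y hy
    have h1 : x * y * x⁻¹ * y⁻¹ ∈ Ea ⊓ Eb := by
      rw [mem_inf]
      constructor
      · have h2 : x * y * x⁻¹ * y⁻¹ = x * (y * x⁻¹ * y⁻¹) := by group
        rw [h2]
        exact mul_mem hx (hna y (hEb hy) _ (inv_mem hx))
      · exact mul_mem (hnb x (hEa hx) _ hy) (inv_mem hy)
    rw [h, mem_bot] at h1
    have h2 := mul_inv_eq_one.1 h1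
    exact mul_inv_eq_iff_eq_mul.1 h2
  have htt : (t : G) * t ∈ B0 z a b := mul_mem_B0 t.2 htB t.2 htB
  have htt2 : ∃ n : ℕ, ((t : G) * t) ^ (2 ^ n) = 1 := by
    obtain ⟨n, hn⟩ := hP2 t ht
    exact ⟨n, by rw [← pow_two, ← pow_mul, mul_comm, pow_mul, hn, one_pow]⟩
  obtain ⟨n0, hn0⟩ := htt2
  have hta : ∀ x ∈ Ea, (t : G) * x * (t : G)⁻¹ ∈ Eb := hsw t t.2 htB
  -- the diagonal subgroup
  let ψ : Ea →* G :=
    { toFun := fun x => (x : G) * ((t : G) * x * (t : G)⁻¹)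
      map_one' := by simp
      map_mul' := by
        intro x y
        have h1 := hcomm y y.2 _ (hta x x.2)
        show ((x : G) * y) * ((t : G) * (x * y) * (t : G)⁻¹) =
          (x : G) * ((t : G) * x * (t : G)⁻¹) * ((y : G) * ((t : G) * y * (t : G)⁻¹))
        calc ((x : G) * y) * ((t : G) * (x * y) * (t : G)⁻¹)
            = (x : G) * (y * ((t : G) * x * (t : G)⁻¹)) * ((t : G) * y * (t : G)⁻¹) := by group
          _ = (x : G) * (((t : G) * x * (t : G)⁻¹) * y) * ((t : G) * y * (t : G)⁻¹) := by rw [h1]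
          _ = _ := by group }
  have hψ : ∀ x : Ea, ψ x = (x : G) * ((t : G) * x * (t : G)⁻¹) := fun _ => rfl
  have hinj : Function.Injective ψ := by
    rw [injective_iff_map_eq_one]
    intro x hx
    rw [hψ] at hx
    have h1 : (x : G) = ((t : G) * x * (t : G)⁻¹)⁻¹ := eq_inv_of_mul_eq_one_left hx
    have h2 : (x : G) ∈ Ea ⊓ Eb := mem_inf.2 ⟨x.2, by rw [h1]; exact inv_mem (hta x x.2)⟩
    rw [h, mem_bot] at h2
    exact Subtype.ext h2
  refine ⟨ψ.range, ?_, ?_, ?_⟩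
  · rintro _ ⟨x, rfl⟩
    rw [hψ]
    exact mul_mem (B0_le_Bs z a b (hEa x.2)) (B0_le_Bs z a b (hEb (hta x x.2)))
  · exact (Nat.card_congr (MonoidHom.ofInjective hinj).toEquiv).symm
  · rintro _ ⟨x, rfl⟩ p hp
    rw [hψ]
    -- elements of `P ∩ B0`
    have hP0 : ∀ p : Bs z a b, p ∈ (P : Subgroup (Bs z a b)) → (p : G) ∈ B0 z a b →
        (p : G) * ((x : G) * ((t : G) * x * (t : G)⁻¹)) = ((x : G) * ((t : G) * x * (t : G)⁻¹)) * p := by
      intro p hp hpB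
      obtain ⟨n, hn⟩ := hP2 p hp
      have h1 : Commute (p : G) x := hca p hpB n hn x x.2
      have h2 : Commute (p : G) ((t : G) * x * (t : G)⁻¹) := hcb p hpB n hn _ (hta x x.2)
      exact (h1.mul_right h2).eq
    have htx : (t : G) * ((x : G) * ((t : G) * x * (t : G)⁻¹)) = ((x : G) * ((t : G) * x * (t : G)⁻¹)) * t := by
      have h1 : (t : G) * t * x = x * ((t : G) * t) := hca _ htt n0 hn0 x x.2
      have h2 := hcomm x x.2 _ (hta x x.2)
      calc (t : G) * ((x : G) * ((t : G) * x * (t : G)⁻¹))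
          = ((t : G) * x * (t : G)⁻¹) * ((t : G) * t * x) * (t : G)⁻¹ := by group
        _ = ((t : G) * x * (t : G)⁻¹) * (x * ((t : G) * t)) * (t : G)⁻¹ := by rw [h1]
        _ = (((t : G) * x * (t : G)⁻¹) * x) * t := by group
        _ = _ := by rw [← h2]
    by_cases hpB : (p : G) ∈ B0 z a b
    · exact (hP0 p hp hpB).symm
    · have h1 : (t : G)⁻¹ * p ∈ B0 z a b := by
        refine mul_mem_B0 (inv_mem t.2) ?_ p.2 hpB
        intro hcon
        exact htB (by simpa using inv_mem hcon)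
      have h2 := hP0 (t⁻¹ * p) (mul_mem (inv_mem ht) hp) h1
      have h3 : ((t⁻¹ * p : Bs z a b) : G) = (t : G)⁻¹ * p := rfl
      rw [h3] at h2
      set X : G := (x : G) * ((t : G) * x * (t : G)⁻¹) with hX
      calc X * p = (X * t) * ((t : G)⁻¹ * p) := by group
        _ = (t * X) * ((t : G)⁻¹ * p) := by rw [htx]
        _ = t * (X * ((t : G)⁻¹ * p)) := by group
        _ = t * (((t : G)⁻¹ * p) * X) := by rw [h2]
        _ = p * X := by group

end Cfsg.Agent.RuC.Syl
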