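import Cfsg.Agent.RuC.Sig
import Cfsg.Agent.RuC.Syl

/-!
# The core argument: `M = ⊤`
-/

set_option autoImplicit false
set_option Elab.async false

namespace Cfsg.Agent.RuC

open Subgroup Cfsg.Agent.RuB Cfsg.Agent.RuB.Core Cfsg.Agent.RuB.NormZ Cfsg.Agent.RuB.Local
open Cfsg.Agent.Ru127.Form Cfsg.Agent.Ru127.Inst Cfsg.Agent.RuC.Count2 Cfsg.Agent.Ru127.Fiber

/-- an element of a simple `Core` group commuting with all 2-elements is trivial -/
theorem eq_one_of_comm_two {K : Type*} [Group K] [IsSimpleGroup K] (C : Core K) {k : K}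
    (hk : ∀ y : K, Two y → k * y = y * k) : k = 1 := by
  have hn : (closure {y : K | Two y}).Normal := by
    refine ⟨fun x hx g => ?_⟩
    have : closure {y : K | Two y} ≤ (closure {y : K | Two y}).comap (MulAut.conj g).toMonoidHom := by
      rw [closure_le]
      intro y hy
      exact subset_closure (Two.conj hy g)
    exact this hx
  have htop : closure {y : K | Two y} = ⊤ := by
    refine (IsSimpleGroup.eq_bot_or_eq_top_of_normal _ hn).resolve_left ?_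
    intro hbot
    have ha : C.z 1 ∈ closure {y : K | Two y} := subset_closure (Cov.two_z 1)
    rw [hbot, mem_bot] at ha
    exact one_ne_zero (C.z_eq_one ha)
  have hkc : k ∈ center K := by
    rw [mem_center_iff]
    intro g
    have h1 : closure {y : K | Two y} ≤ centralizer {k} := by
      rw [closure_le]
      intro y hy
      exact mem_centralizer_singleton_iff.2 (hk y hy).symm
    have h2 : g ∈ closure {y : K | Two y} := by rw [htop]; exact mem_top _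
    exact mem_centralizer_singleton_iff.1 (h1 h2)
  rcases IsSimpleGroup.eq_bot_or_eq_top_of_normal (center K) inferInstance with h1 | h1
  · rw [h1, mem_bot] at hkc
    exact hkc
  · exfalso
    obtain ⟨x, hx⟩ := Core.exists_act C 1
    have h2 := hx.2 (1, 0)
    have h3 : C.v (1, 0) ∈ center K := by rw [h1]; exact mem_top _
    rw [mem_center_iff.1 h3 x, mul_inv_cancel_right, emb_one, mul_one] at h2
    exact one_ne_zero (C.z_eq_one (left_eq_mul.1 h2))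

theorem cj_inj {G : Type*} [Group G] {g k : G} {Y : Subgroup G} (h : cj g Y = cj k Y) : cj (k⁻¹ * g) Y = Y := by
  rw [Ru127.Form.cj_mul, h, cj_inv_cj]

namespace Cov

variable {G K : Type*} [Group G] [Group K] {C : Core K} {M : Subgroup G} {φ : M →* K} (h : Cov C M φ)

/-- `M` normalises `D` -/
theorem cj_DG {m : G} (hm : m ∈ M) : ∀ d, d ∈ h.DG → m * d * m⁻¹ ∈ h.DG := by
  intro d hd
  obtain ⟨hd1, hd2⟩ := h.mem_DG.1 hd
  rw [h.mem_DG]
  refine ⟨mul_mem (mul_mem hm hd1) (inv_mem hm), ?_⟩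
  have : (⟨m * d * m⁻¹, mul_mem (mul_mem hm hd1) (inv_mem hm)⟩ : M) = ⟨m, hm⟩ * ⟨d, hd1⟩ * ⟨m, hm⟩⁻¹ := rfl
  rw [this, map_mul, map_mul, map_inv, hd2, mul_one, mul_inv_cancel]

theorem cj_DG_eq {m : G} (hm : m ∈ M) : cj m h.DG = h.DG := by
  ext x
  rw [mem_cj]
  constructor
  · intro hx
    have := h.cj_DG hm _ hx
    have e : m * (m⁻¹ * x * m) * m⁻¹ = x := by group
    rwa [e] at this
  · intro hx
    have := h.cj_DG (inv_mem hm) _ hx
    rwa [inv_inv] at this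

/-- 2-elements of `M` commute with `D` -/
theorem two_comm_DG {y d : G} (hy : y ∈ M) (hy2 : Two y) (hd : d ∈ h.DG) : y * d = d * y := by
  obtain ⟨hd1, hd2⟩ := h.mem_DG.1 hd
  exact congrArg Subtype.val (h.toO.two_comm_ker (x := ⟨y, hy⟩) (d := ⟨d, hd1⟩) (two_coe.1 hy2) hd2)

/-- the `G`-conjugates of `D` intersect trivially -/
theorem ti [IsSimpleGroup K]
    (H2 : ∀ g, (∀ d, d ∈ h.DG ↔ g * d * g⁻¹ ∈ h.DG) → g ∈ M)
    (H3 : ∀ x ∈ h.DG, x ≠ 1 → ∀ g, g * x = x * g → g ∈ M) {x g : G} (hx : x ∈ h.DG) (hx1 : x ≠ 1)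
    (hgx : g⁻¹ * x * g ∈ h.DG) : g ∈ M := by
  -- 2-elements of `M` are conjugated into `M`
  have key : ∀ x g : G, x ∈ h.DG → x ≠ 1 → g⁻¹ * x * g ∈ h.DG → ∀ y ∈ M, Two y → g * y * g⁻¹ ∈ M := by
    intro x g hx hx1 hgx y hy hy2
    apply H3 x hx hx1
    have h1 := h.two_comm_DG hy hy2 hgx
    calc g * y * g⁻¹ * x = g * (y * (g⁻¹ * x * g)) * g⁻¹ := by group
      _ = g * ((g⁻¹ * x * g) * y) * g⁻¹ := by rw [h1]
      _ = _ := by group
  have hx1' : g⁻¹ * x * g ≠ 1 := by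
    intro hh
    apply hx1
    calc x = g * (g⁻¹ * x * g) * g⁻¹ := by group
      _ = 1 := by rw [hh]; group
  have hgx' : g⁻¹⁻¹ * (g⁻¹ * x * g) * g⁻¹ ∈ h.DG := by
    have e : g⁻¹⁻¹ * (g⁻¹ * x * g) * g⁻¹ = x := by group
    rw [e]; exact hx
  have k1 := key x g hx hx1 hgx
  have k2 := key _ g⁻¹ hgx hx1' hgx'
  have main : ∀ g : G, (∀ y ∈ M, Two y → g⁻¹ * y * g ∈ M) → ∀ d ∈ h.DG, g * d * g⁻¹ ∈ h.DG := by
    intro g hg d hd
    have h1 : ∀ y ∈ M, Two y → y * (g * d * g⁻¹) = (g * d * g⁻¹) * y := by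
      intro y hy hy2
      have h2 := h.two_comm_DG (hg y hy hy2) (hy2.conj' g) hd
      calc y * (g * d * g⁻¹) = g * ((g⁻¹ * y * g) * d) * g⁻¹ := by group
        _ = g * (d * (g⁻¹ * y * g)) * g⁻¹ := by rw [h2]
        _ = _ := by group
    have h2 : g * d * g⁻¹ ∈ M :=
      h.mem_of_comm_v' (a := (1, 0)) (by decide) (h1 _ (h.ll_mem _) (h.two_ll _)).symm
    rw [h.mem_DG]
    refine ⟨h2, eq_one_of_comm_two C (fun y hy => ?_)⟩
    exact (h.comm_ll (g := ⟨_, h2⟩) hy).1 (h1 _ (h.ll_mem y) (h.two_ll y)).symm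
  have m1 : ∀ d ∈ h.DG, g * d * g⁻¹ ∈ h.DG := main g (by
    intro y hy hy2
    have := k2 y hy hy2
    rwa [inv_inv] at this)
  have m2 : ∀ d ∈ h.DG, g⁻¹ * d * g⁻¹⁻¹ ∈ h.DG := main g⁻¹ (by
    intro y hy hy2
    rw [inv_inv]
    exact k1 y hy hy2)
  apply H2
  intro d
  constructor
  · exact m1 d
  · intro hd
    have := m2 _ hd
    have e : g⁻¹ * (g * d * g⁻¹) * g⁻¹⁻¹ = d := by group
    rwa [e] at this

/-- the conjugates of `Z'` containing `z'` -/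
def SS : Set (Subgroup G) := {Y | (∃ g, Y = cj g h.ZG) ∧ h.z' 1 ∈ Y}

theorem comm_of_mem_QG [Finite G] {K0 : Coord C} {g x y : G} (hx : x ∈ cj g (h.QG K0)) (hy : y ∈ cj g h.ZG) :
    x * y = y * x := by
  rw [mem_cj] at hx hy
  obtain ⟨b, hb⟩ := hy
  have h1 := h.QG_le_cz' K0 hx b
  rw [← hb] at h1
  calc x * y = g * ((g⁻¹ * x * g) * (g⁻¹ * y * g)) * g⁻¹ := by group
    _ = g * ((g⁻¹ * y * g) * (g⁻¹ * x * g)) * g⁻¹ := by rw [h1]
    _ = _ := by group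

theorem cj_eq_of_comm {x : G} {Y : Subgroup G} (hx : ∀ y ∈ Y, x * y = y * x) : cj x Y = Y := by
  ext y
  rw [mem_cj]
  constructor
  · intro hy
    have h1 := hx _ hy
    have e : y = x⁻¹ * y * x := by
      calc y = (x * (x⁻¹ * y * x)) * x⁻¹ := by group
        _ = x⁻¹ * y * x := by rw [h1]; group
    rw [e]; exact hy
  · intro hy
    have h1 := hx y hy
    have e : x⁻¹ * y * x = y := by
      rw [mul_assoc, ← h1]; group
    rw [e]; exact hy

section fin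

variable [Finite G] [Finite K] {K0 : Coord C} (cd : Cd C K0)

include cd

/-- the Sylow condition -/
theorem syl [IsSimpleGroup K]
    (H2 : ∀ g, (∀ d, d ∈ h.DG ↔ g * d * g⁻¹ ∈ h.DG) → g ∈ M)
    (H3 : ∀ x ∈ h.DG, x ≠ 1 → ∀ g, g * x = x * g → g ∈ M) {a b : Subgroup G} (ha : a ∈ h.SS) (hb : b ∈ h.SS) :
    Nat.card (Sylow 2 (Bs (h.z' 1) a b)) ≤ 3 := by
  obtain ⟨⟨g, rfl⟩, hza⟩ := ha
  obtain ⟨⟨k, rfl⟩, hzb⟩ := hb
  -- elements of the normaliser of `cj g Z'`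
  have hM : ∀ g x : G, cj x (cj g h.ZG) = cj g h.ZG → g⁻¹ * x * g ∈ M := by
    intro g x hx
    apply h.mem_of_nor cd H2
    rw [mul_assoc, Ru127.Form.cj_mul, Ru127.Form.cj_mul, hx, cj_inv_cj]
  have hMsw : ∀ g k x : G, cj x (cj g h.ZG) = cj k h.ZG → k⁻¹ * x * g ∈ M := by
    intro g k x hx
    apply h.mem_of_nor cd H2
    rw [mul_assoc, Ru127.Form.cj_mul, Ru127.Form.cj_mul, hx, cj_inv_cj]
  have hDn : ∀ g k u x : G, k⁻¹ * u * g ∈ M → x ∈ cj g h.DG → u * x * u⁻¹ ∈ cj k h.DG := by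
    intro g k u x hu hx
    rw [mem_cj] at hx ⊢
    have := h.cj_DG hu _ hx
    have e : k⁻¹ * u * g * (g⁻¹ * x * g) * (k⁻¹ * u * g)⁻¹ = k⁻¹ * (u * x * u⁻¹) * k := by group
    rwa [e] at this
  have hDc : ∀ g u x : G, g⁻¹ * u * g ∈ M → Two u → x ∈ cj g h.DG → u * x = x * u := by
    intro g u x hu hu2 hx
    rw [mem_cj] at hx
    have := h.two_comm_DG hu (hu2.conj' g) hx
    calc u * x = g * ((g⁻¹ * u * g) * (g⁻¹ * x * g)) * g⁻¹ := by group
      _ = g * ((g⁻¹ * x * g) * (g⁻¹ * u * g)) * g⁻¹ := by rw [this]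
      _ = _ := by group
  have hBn : ∀ u ∈ Bs (h.z' 1) (cj g h.ZG) (cj k h.ZG), ∀ x ∈ B0 (h.z' 1) (cj g h.ZG) (cj k h.ZG),
      u * x * u⁻¹ ∈ B0 (h.z' 1) (cj g h.ZG) (cj k h.ZG) := by
    intro u hu x hx
    rw [mem_B0] at hx ⊢
    obtain ⟨hx1, hx2, hx3⟩ := hx
    refine ⟨(hu.1.mul_left hx1).mul_left hu.1.inv_left, ?_, ?_⟩
    · rw [Ru127.Form.cj_mul, Ru127.Form.cj_mul]
      rcases hu.2 with ⟨h1, h2⟩ | ⟨h1, h2⟩
      · have h3 : cj u⁻¹ (cj g h.ZG) = cj g h.ZG := by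
          conv_lhs => rw [← h1]
          exact cj_inv_cj _ _
        rw [h3, hx2, h1]
      · have h3 : cj u⁻¹ (cj g h.ZG) = cj k h.ZG := by
          conv_lhs => rw [← h2]
          exact cj_inv_cj _ _
        rw [h3, hx3, h2]
    · rw [Ru127.Form.cj_mul, Ru127.Form.cj_mul]
      rcases hu.2 with ⟨h1, h2⟩ | ⟨h1, h2⟩
      · have h3 : cj u⁻¹ (cj k h.ZG) = cj k h.ZG := by
          conv_lhs => rw [← h2]
          exact cj_inv_cj _ _
        rw [h3, hx3, h2]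
      · have h3 : cj u⁻¹ (cj k h.ZG) = cj g h.ZG := by
          conv_lhs => rw [← h1]
          exact cj_inv_cj _ _
        rw [h3, hx2, h1]
  refine Syl.card_sylow_le (Ea := cj g h.DG ⊓ B0 (h.z' 1) (cj g h.ZG) (cj k h.ZG))
    (Eb := cj k h.DG ⊓ B0 (h.z' 1) (cj g h.ZG) (cj k h.ZG)) inf_le_right inf_le_right ?_ ?_ ?_ ?_ ?_ ?_ ?_
  · rintro u hu x ⟨hx1, hx2⟩
    exact ⟨hDn g g u x (hM g u (mem_B0.1 hu).2.1) hx1, hBn u (B0_le_Bs _ _ _ hu) x hx2⟩
  · rintro u hu x ⟨hx1, hx2⟩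
    exact ⟨hDn k k u x (hM k u (mem_B0.1 hu).2.2) hx1, hBn u (B0_le_Bs _ _ _ hu) x hx2⟩
  · rintro u hu n hn x ⟨hx1, hx2⟩
    exact hDc g u x (hM g u (mem_B0.1 hu).2.1) ⟨n, hn⟩ hx1
  · rintro u hu n hn x ⟨hx1, hx2⟩
    exact hDc k u x (hM k u (mem_B0.1 hu).2.2) ⟨n, hn⟩ hx1
  · rintro u hu huB x ⟨hx1, hx2⟩
    obtain ⟨h1, h2⟩ := Syl.not_B0 hu huB
    exact ⟨hDn g k u x (hMsw g k u h1) hx1, hBn u hu x hx2⟩
  · -- the order
    obtain ⟨b, hb⟩ := mem_cj.1 hza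
    have hb0 : b ≠ 0 := by
      rintro rfl
      rw [h.z'_zero] at hb
      have h1 : h.z' 1 = 1 := by
        calc h.z' 1 = g * (g⁻¹ * h.z' 1 * g) * g⁻¹ := by group
          _ = 1 := by rw [hb]; group
      exact one_ne_zero (h.z'_eq_one h1)
    have hBM : ∀ u : B0 (h.z' 1) (cj g h.ZG) (cj k h.ZG), g⁻¹ * (u : G) * g ∈ M :=
      fun u => hM g u (mem_B0.1 u.2).2.1
    let f : B0 (h.z' 1) (cj g h.ZG) (cj k h.ZG) →* K := MonoidHom.mk' (fun u => φ ⟨g⁻¹ * (u : G) * g, hBM u⟩) (by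
      intro u w
      rw [← map_mul]
      congr 1
      apply Subtype.ext
      show g⁻¹ * ((u : G) * w) * g = (g⁻¹ * u * g) * (g⁻¹ * w * g)
      group)
    have hf : ∀ u, f u = φ ⟨g⁻¹ * (u : G) * g, hBM u⟩ := fun _ => rfl
    have hker : Nat.card f.ker = Nat.card (cj g h.DG ⊓ B0 (h.z' 1) (cj g h.ZG) (cj k h.ZG) : Subgroup G) := by
      refine Nat.card_congr ⟨fun u => ⟨((u : B0 (h.z' 1) (cj g h.ZG) (cj k h.ZG)) : G), ?_, u.1.2⟩,
        fun x => ⟨⟨x, x.2.2⟩, ?_⟩, fun u => rfl, fun x => rfl⟩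
      · have h1 := u.2
        rw [MonoidHom.mem_ker, hf] at h1
        exact mem_cj.2 (h.mem_DG.2 ⟨_, h1⟩)
      · rw [MonoidHom.mem_ker, hf]
        obtain ⟨h1, h2⟩ := h.mem_DG.1 (mem_cj.1 x.2.1)
        exact h2
    have hrange : f.range ≤ nor (Zs C) ⊓ centralizer {C.z b} := by
      rintro _ ⟨u, rfl⟩
      have hu := mem_B0.1 u.2
      refine mem_inf.2 ⟨?_, ?_⟩
      · rw [mem_nor]
        -- the image normalises `Zs`
        have h1 : cj (g⁻¹ * (u : G) * g) h.ZG = h.ZG := by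
          rw [mul_assoc, Ru127.Form.cj_mul, Ru127.Form.cj_mul, hu.2.1, cj_inv_cj]
        have key : ∀ e : K8, f u * C.z e * (f u)⁻¹ ∈ Zs C := by
          intro e
          have h2 : (g⁻¹ * (u : G) * g) * h.z' e * (g⁻¹ * (u : G) * g)⁻¹ ∈ h.ZG := by
            have : (g⁻¹ * (u : G) * g) * h.z' e * (g⁻¹ * (u : G) * g)⁻¹ ∈ cj (g⁻¹ * (u : G) * g) h.ZG := by
              rw [mem_cj]
              have e1 : (g⁻¹ * (u : G) * g)⁻¹ * (g⁻¹ * (u : G) * g * h.z' e * (g⁻¹ * (u : G) * g)⁻¹) *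
                (g⁻¹ * (u : G) * g) = h.z' e := by group
              rw [e1]; exact h.z'_mem_ZG e
            rwa [h1] at this
          obtain ⟨e', he'⟩ := h2
          have h3 := h.conj_ll ⟨g⁻¹ * (u : G) * g, hBM u⟩ (two_z (C := C) e)
          have h4 : h.ll (f u * C.z e * (f u)⁻¹) = h.ll (C.z e') := h3.symm.trans he'
          exact ⟨e', h.ll_inj ((two_z e).conj _) (two_z e') h4⟩
        apply eq_of_le_of_card_ge
        · intro x hx
          rw [mem_cj] at hx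
          obtain ⟨e, he⟩ := hx
          have h2 := key e
          rw [← he] at h2
          have e1 : f u * ((f u)⁻¹ * x * f u) * (f u)⁻¹ = x := by group
          rwa [e1] at h2
        · unfold Ru127.Form.cj
          rw [card_map_of_injective (MulAut.conj _).injective]
      · rw [mem_centralizer_singleton_iff]
        have h1 : (g⁻¹ * (u : G) * g) * h.z' b = h.z' b * (g⁻¹ * (u : G) * g) := by
          rw [← hb]
          have h2 : (u : G) * h.z' 1 = h.z' 1 * u := hu.1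
          calc (g⁻¹ * (u : G) * g) * (g⁻¹ * h.z' 1 * g) = g⁻¹ * ((u : G) * h.z' 1) * g := by group
            _ = g⁻¹ * (h.z' 1 * u) * g := by rw [h2]
            _ = _ := by group
        exact (h.comm_ll (g := ⟨g⁻¹ * (u : G) * g, hBM u⟩) (two_z b)).1 h1
    have hz1 : C.z b ≠ 1 := fun hh => hb0 (C.z_eq_one hh)
    have hstab := Ru127.Count.card_nor_cent cd.L hz1 (Local.Zs_mem_ZZ (C := C)) (z_mem_Zs b)
    have h1 : Nat.card f.range ∣ 2 ^ 14 * 3 := by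
      rw [← hstab]
      exact card_dvd_of_le hrange
    have h2 : Nat.card (B0 (h.z' 1) (cj g h.ZG) (cj k h.ZG)) = Nat.card f.ker * Nat.card f.range := by
      rw [← Subgroup.index_ker, Subgroup.card_mul_index]
    rw [h2, hker, mul_comm]
    exact Nat.mul_dvd_mul_right h1 _
  · by_cases hE : (cj g h.DG ⊓ B0 (h.z' 1) (cj g h.ZG) (cj k h.ZG)) ⊓
        (cj k h.DG ⊓ B0 (h.z' 1) (cj g h.ZG) (cj k h.ZG)) = ⊥
    · exact Or.inl hE
    · right
      obtain ⟨⟨x, hx⟩, hx1'⟩ := Subgroup.ne_bot_iff_exists_ne_one.1 hE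
      have hx1 : x ≠ 1 := fun hh => hx1' (Subtype.ext hh)
      have hxa := mem_cj.1 hx.1.1
      have hxb := mem_cj.1 hx.2.1
      have hm : g⁻¹ * k ∈ M := by
        refine h.ti H2 H3 hxa ?_ ?_
        · intro hh
          apply hx1
          calc x = g * (g⁻¹ * x * g) * g⁻¹ := by group
            _ = 1 := by rw [hh]; group
        · have e : (g⁻¹ * k)⁻¹ * (g⁻¹ * x * g) * (g⁻¹ * k) = k⁻¹ * x * k := by group
          rw [e]; exact hxb
      have hD : cj k h.DG = cj g h.DG := by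
        have e : k = g * (g⁻¹ * k) := by group
        conv_lhs => rw [e, Ru127.Form.cj_mul, h.cj_DG_eq hm]
      refine ⟨by rw [hD], ?_⟩
      rintro u hu n hn y ⟨hy1, hy2⟩
      by_cases huB : u ∈ B0 (h.z' 1) (cj g h.ZG) (cj k h.ZG)
      · exact hDc g u y (hM g u (mem_B0.1 huB).2.1) ⟨n, hn⟩ hy1
      · obtain ⟨h1, h2⟩ := Syl.not_B0 hu huB
        have h3 := mul_mem hm (hMsw g k u h1)
        have e : g⁻¹ * k * (k⁻¹ * u * g) = g⁻¹ * u * g := by group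
        rw [e] at h3
        exact hDc g u y h3 ⟨n, hn⟩ hy1

/-- the setup of the counting argument -/
theorem setup [IsSimpleGroup K]
    (H2 : ∀ g, (∀ d, d ∈ h.DG ↔ g * d * g⁻¹ ∈ h.DG) → g ∈ M)
    (H3 : ∀ x ∈ h.DG, x ≠ 1 → ∀ g, g * x = x * g → g ∈ M)
    (hnor : ∀ t ∈ h.DS, cj t h.ZG = h.ZG → t ∈ h.QG K0) : Setup h.DS h.SS (h.z' 1) R8 := by
  have hnor' : ∀ t ∈ h.DS, ∀ g, cj t (cj g h.ZG) = cj g h.ZG → t ∈ cj g (h.QG K0) := by
    intro t ht g hg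
    rw [mem_cj]
    apply hnor
    · have := h.DS_conj ht g⁻¹
      rwa [inv_inv] at this
    · rw [mul_assoc, Ru127.Form.cj_mul, Ru127.Form.cj_mul, hg, cj_inv_cj]
  refine ⟨fun d hd => h.DS_sq hd, ?_, ?_, ?_, ?_, ?_⟩
  · rintro a ⟨⟨k, rfl⟩, hz⟩ g hg
    exact ⟨⟨g * k, (Ru127.Form.cj_mul _ _ _).symm⟩, Ru127.Count.mem_cj_of_commute hg hz⟩
  · rintro a ⟨⟨g, rfl⟩, hz⟩
    refine ⟨cj g (h.QG K0), _, qc_cj (h.qc cd H2) (fun d hd g => h.DS_conj hd g) g, ?_, ?_⟩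
    · intro x hx
      exact ⟨h.comm_of_mem_QG hx hz, cj_eq_of_comm (fun y hy => h.comm_of_mem_QG hx hy)⟩
    · intro d hd _ hda
      exact hnor' d hd g hda
  · rintro d ⟨g, a, ha, rfl⟩ hdz
    obtain ⟨c, hc1, hc2⟩ := h.htwo K0 ha one_ne_zero hdz
    refine ⟨cj c h.ZG, ⟨⟨c, rfl⟩, Ru127.Count.mem_cj_of_commute hc1 (h.z'_mem_ZG 1)⟩, ?_⟩
    apply cj_eq_of_comm
    intro y hy
    refine h.comm_of_mem_QG (K0 := K0) ?_ hy
    rw [← hc2, mem_cj]
    have e : c⁻¹ * (c * h.v' a * c⁻¹) * c = h.v' a := by group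
    rw [e]
    exact h.v'_mem_QG K0 a
  · rintro d hd hdz a ⟨⟨g, rfl⟩, hza⟩ b ⟨⟨k, rfl⟩, hzb⟩ hda hdb
    obtain ⟨g0, a0, ha0, hd0⟩ := id hd
    obtain ⟨c, hc1, hc2⟩ := h.htwo K0 ha0 one_ne_zero (g := g0) (by rw [← hd0]; exact hdz)
    have key : ∀ g : G, h.z' 1 ∈ cj g h.ZG → cj d (cj g h.ZG) = cj g h.ZG → cj g h.ZG = cj c h.ZG := by
      intro g hzg hg
      apply h.le_cj_of cd ha0 hc1 hzg
      intro y hy
      rw [hc2, ← hd0]
      exact (h.comm_of_mem_QG (hnor' d hd g hg) hy).symm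
    rw [key g hza hda, key k hzb hdb]
  · intro a ha b hb _
    exact h.syl cd H2 H3 ha hb

/-- the centraliser of `z'` lies in `M` -/
theorem cent_z'_le [IsSimpleGroup K]
    (H2 : ∀ g, (∀ d, d ∈ h.DG ↔ g * d * g⁻¹ ∈ h.DG) → g ∈ M)
    (H3 : ∀ x ∈ h.DG, x ≠ 1 → ∀ g, g * x = x * g → g ∈ M)
    (hnor : ∀ t ∈ h.DS, cj t h.ZG = h.ZG → t ∈ h.QG K0) {g : G} (hg : g * h.z' 1 = h.z' 1 * g) : g ∈ M := by
  have S := h.setup cd H2 H3 hnor
  by_cases hgZ : h.ZG = cj g h.ZG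
  · exact h.mem_of_nor cd H2 hgZ.symm
  have hb : h.ZG ∈ h.SS := ⟨⟨1, (Ru127.Form.cj_one _).symm⟩, h.z'_mem_ZG 1⟩
  have hc : cj g h.ZG ∈ h.SS := ⟨⟨g, rfl⟩, Ru127.Count.mem_cj_of_commute hg (h.z'_mem_ZG 1)⟩
  have hnorm := Count2.norm S hb hc hgZ
  have hD : ∀ d ∈ h.DG, g⁻¹ * d * g ∈ h.DG := by
    intro d hd
    have h1 : g⁻¹ * d * g ∈ h.cz' := by
      intro b
      have hy : g * h.z' b * g⁻¹ ∈ cj g h.ZG := by
        rw [mem_cj]
        have e : g⁻¹ * (g * h.z' b * g⁻¹) * g = h.z' b := by group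
        rw [e]; exact h.z'_mem_ZG b
      have hyM := h.mem_of_nor cd H2 (hnorm _ hy)
      have h2 := h.two_comm_DG hyM ((two_of_sq (h.z'_sq b)).conj g) hd
      calc g⁻¹ * d * g * h.z' b = g⁻¹ * (d * (g * h.z' b * g⁻¹)) * g := by group
        _ = g⁻¹ * ((g * h.z' b * g⁻¹) * d) * g := by rw [h2]
        _ = _ := by group
    obtain ⟨q, hq, d', hd', hqd⟩ := h.cent_Z' K0 cd.μ h1
    have h2 : (q * d') ^ (Nat.card h.DG) = 1 := by
      rw [← hqd]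
      have h3 : (g⁻¹ * d * g⁻¹⁻¹) ^ (Nat.card h.DG) = 1 := by
        rw [conj_pow, pow_card_mem hd, mul_one, mul_inv_cancel]
      rwa [inv_inv] at h3
    have h3 := h.mem_DG_of_odd K0 hq hd' h.DG_odd h2
    rw [hqd, h3, one_mul]
    exact hd'
  have hcj : cj g⁻¹ h.DG = h.DG := by
    apply eq_of_le_of_card_ge
    · intro x hx
      rw [mem_cj, inv_inv] at hx
      have := hD _ hx
      have e : g⁻¹ * (g * x * g⁻¹) * g = x := by group
      rwa [e] at this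
    · unfold Ru127.Form.cj
      rw [card_map_of_injective (MulAut.conj _).injective]
  apply H2
  intro d
  constructor
  · intro hd
    rw [← hcj, mem_cj, inv_inv] at hd
    exact hd
  · intro hd
    have := hD _ hd
    have e : g⁻¹ * (g * d * g⁻¹) * g = d := by group
    rwa [e] at this

/-- **the core argument** (with `D_nor` as a hypothesis) -/
theorem kill_of [IsSimpleGroup K]
    (H2 : ∀ g, (∀ d, d ∈ h.DG ↔ g * d * g⁻¹ ∈ h.DG) → g ∈ M)
    (H3 : ∀ x ∈ h.DG, x ≠ 1 → ∀ g, g * x = x * g → g ∈ M)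
    (hnor : ∀ t ∈ h.DS, cj t h.ZG = h.ZG → t ∈ h.QG K0) : M = ⊤ :=
  h.eq_top_of K0 H2 (fun _ hg => h.cent_z'_le cd H2 H3 hnor hg)

end fin

end Cov

end Cfsg.Agent.RuC
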