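import Cfsg.Agent.RuC.End
import Cfsg.Agent.RuC.HTwo
import Cfsg.Agent.RuC.Count2
import Cfsg.Agent.RuB.QSyl

/-!
# The classes of `Z'` and `v'` in `G`
-/

set_option autoImplicit false
set_option Elab.async false

namespace Cfsg.Agent.RuC

open Subgroup Cfsg.Agent.RuB Cfsg.Agent.RuB.Core Cfsg.Agent.RuB.NormZ Cfsg.Agent.RuB.Local
open Cfsg.Agent.Ru127.Form Cfsg.Agent.Ru127.Inst Cfsg.Agent.RuC.Count2

/-- the coordinates of `K` -/
structure Cd {K : Type*} [Group K] (C : Core K) (K0 : Coord C) : Prop where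
  ν : K0.ν = ⟨5⟩
  μ : K0.μ = ⟨7⟩
  co : IsCoord (DD C) (Zs C) R8 K0.π C.z
  nc : Nat.card (nor (Zs C)) = 2 ^ 14 * 21
  tr : ∀ b, b ≠ 0 → ∃ n ∈ nor (Zs C), n * C.z 1 * n⁻¹ = C.z b
  L : LocalData (DD C) (ZZ C) R8

theorem exists_cd {K : Type*} [Group K] [Finite K] (C : Core K) : ∃ K0 : Coord C, Cd C K0 := by
  obtain ⟨K0, hν, hμ, g0, hg0, ht⟩ := QSyl.exists_coord_norm C
  have L := Local.localData' hν hμ hg0 ht
  have hZ : Zs C ∈ ZZ C := Local.Zs_mem_ZZ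
  refine ⟨K0, hν, hμ, Local.isCoord hν hμ (mem_nor_of_norm hg0) ht, L.norm_card _ hZ, ?_, L⟩
  intro b hb
  exact exists_nor_conj one_ne_zero hb

namespace Cov

variable {G K : Type*} [Group G] [Group K] {C : Core K} {M : Subgroup G} {φ : M →* K} (h : Cov C M φ)

/-- `Z'` -/
def ZG : Subgroup G where
  carrier := {x | ∃ b, x = h.z' b}
  mul_mem' := by
    rintro _ _ ⟨a, rfl⟩ ⟨b, rfl⟩
    exact ⟨a + b, (h.z'_add a b).symm⟩
  one_mem' := ⟨0, by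
    unfold z'
    rw [C.z_zero, h.ll_one]⟩
  inv_mem' := by
    rintro _ ⟨a, rfl⟩
    exact ⟨a, inv_eq_of_mul_eq_one_left (h.z'_sq a)⟩

theorem z'_mem_ZG (b : K8) : h.z' b ∈ h.ZG := ⟨b, rfl⟩

theorem z'_inj {b c : K8} (hbc : h.z' b = h.z' c) : b = c := C.z_inj (h.ll_inj (two_z b) (two_z c) hbc)

theorem z'_zero : h.z' 0 = 1 := by
  unfold z'
  rw [C.z_zero, h.ll_one]

theorem card_ZG : Nat.card h.ZG = 8 := by
  rw [← K8.natCard]
  refine (Nat.card_congr (Equiv.ofBijective (fun b : K8 => (⟨h.z' b, h.z'_mem_ZG b⟩ : h.ZG)) ⟨?_, ?_⟩)).symm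
  · intro a b hab
    have h0 : (⟨h.z' a, h.z'_mem_ZG a⟩ : h.ZG) = ⟨h.z' b, h.z'_mem_ZG b⟩ := hab
    rw [Subtype.mk.injEq] at h0
    exact h.z'_inj h0
  · rintro ⟨_, b, rfl⟩
    exact ⟨b, rfl⟩

/-- the class of `v'` -/
def DS : Set G := {x | ∃ g a, a ≠ 0 ∧ x = g * h.v' a * g⁻¹}

theorem DS_conj {x : G} (hx : x ∈ h.DS) (g : G) : g * x * g⁻¹ ∈ h.DS := by
  obtain ⟨k, a, ha, rfl⟩ := hx
  exact ⟨g * k, a, ha, by group⟩

theorem DS_of_conj {x g : G} (hx : g * x * g⁻¹ ∈ h.DS) : x ∈ h.DS := by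
  have := h.DS_conj hx g⁻¹
  have e : g⁻¹ * (g * x * g⁻¹) * g⁻¹⁻¹ = x := by group
  rwa [e] at this

theorem DS_sq {x : G} (hx : x ∈ h.DS) : x * x = 1 := by
  obtain ⟨g, a, ha, rfl⟩ := hx
  calc g * h.v' a * g⁻¹ * (g * h.v' a * g⁻¹) = g * (h.v' a * h.v' a) * g⁻¹ := by group
    _ = 1 := by rw [h.v'_sq, mul_one, mul_inv_cancel]

theorem ll_mem_DS {q : K} (hq : q ∈ DD C) : h.ll q ∈ h.DS := by
  obtain ⟨k, a, ha, rfl⟩ := hq
  obtain ⟨k', hk'⟩ := h.surj k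
  refine ⟨k', a, ha, ?_⟩
  unfold v'
  rw [h.conj_ll k' (two_v a), hk']

section fin

variable [Finite G] [Finite K] {K0 : Coord C} (cd : Cd C K0)

include cd

theorem notD_cj {g y : G} (hy : y ∈ cj g h.ZG) : y ∉ h.DS := by
  rw [mem_cj] at hy
  obtain ⟨b, hb⟩ := hy
  rintro ⟨k, a, ha, hk⟩
  apply h.no_fus K0 ha b (k⁻¹ * g)
  rw [← hb]
  calc k⁻¹ * g * (g⁻¹ * y * g) * (k⁻¹ * g)⁻¹ = k⁻¹ * y * k := by group
    _ = h.v' a := by rw [hk]; group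

/-- an involution of `Q'` outside the class of `v'` commuting with `v' a` lies in `Z'` -/
theorem mem_ZG_of_QG {a : A4} (ha : a ≠ 0) {y : G} (hy : y ∈ h.QG K0) (hyy : y * y = 1) (hyD : y ∉ h.DS)
    (hc : y * h.v' a = h.v' a * y) : y ∈ h.ZG := by
  obtain ⟨r, hr, rfl⟩ := hy
  have hr2 := two_QQ K0 hr
  have hrr : r * r = 1 := by
    apply h.ll_inj (two_QQ K0 (mul_mem hr hr)) two_one
    rw [h.ll_mul (isPGroup_QQ K0) hr hr, h.ll_one, hyy]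
  have hrc : r * C.v a = C.v a * r := by
    have h1 := (h.comm_ll (g := h.toO.lf r) (two_v a)).1 hc
    rwa [h.toO.φ_lf hr2] at h1
  have hrZ : r ∈ Subgroup.centralizer (Zs C : Set K) := (mem_cent_iff K0 cd.μ).2 hr
  have hvZ : C.v a ∈ Subgroup.centralizer (Zs C : Set K) := (mem_cent_iff K0 cd.μ).2 (TT_le (v_mem_TT a))
  have hq := Ru127.Basic.q_of_sq cd.co hrZ hrr
  have hb := Ru127.Basic.b_of_commute cd.co hvZ hrZ (show Commute (C.v a) r from hrc.symm)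
  have hvT := (cd.co.D_iff _ hvZ).1 (v_mem_DD ha)
  have h5 := R8.q5 _ _ hvT hq hb
  by_cases h0 : K0.π r = 0
  · obtain ⟨e, he⟩ := K0.ker r hr h0
    exact ⟨e, by rw [he]; rfl⟩
  · exfalso
    exact hyD (h.ll_mem_DS ((cd.co.D_iff _ hrZ).2 ⟨h0, h5⟩))

/-- the key to uniqueness -/
theorem mem_cj_of {a : A4} (ha : a ≠ 0) {c y : G} (hcz : c * h.z' 1 = h.z' 1 * c)
    (hyd : y * (c * h.v' a * c⁻¹) = (c * h.v' a * c⁻¹) * y) (hyz : y * h.z' 1 = h.z' 1 * y) (hyy : y * y = 1)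
    (hyD : y ∉ h.DS) : y ∈ cj c h.ZG := by
  rw [mem_cj]
  have h1 : (c⁻¹ * y * c) * h.v' a = h.v' a * (c⁻¹ * y * c) := by
    calc (c⁻¹ * y * c) * h.v' a = c⁻¹ * (y * (c * h.v' a * c⁻¹)) * c := by group
      _ = c⁻¹ * ((c * h.v' a * c⁻¹) * y) * c := by rw [hyd]
      _ = _ := by group
  have hcz' : c⁻¹ * h.z' 1 = h.z' 1 * c⁻¹ := by
    rw [inv_mul_eq_iff_eq_mul, ← mul_assoc, hcz, mul_inv_cancel_right]
  have h2 : (c⁻¹ * y * c) * h.z' 1 = h.z' 1 * (c⁻¹ * y * c) := by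
    calc (c⁻¹ * y * c) * h.z' 1 = c⁻¹ * y * (c * h.z' 1) := by group
      _ = c⁻¹ * (y * h.z' 1) * c := by rw [hcz]; group
      _ = (c⁻¹ * h.z' 1) * y * c := by rw [hyz]; group
      _ = _ := by rw [hcz']; group
  have h3 : (c⁻¹ * y * c) * (c⁻¹ * y * c) = 1 := by
    calc (c⁻¹ * y * c) * (c⁻¹ * y * c) = c⁻¹ * (y * y) * c := by group
      _ = 1 := by rw [hyy]; group
  have h4 : c⁻¹ * y * c ∉ h.DS := by
    intro hh
    apply hyD
    have := h.DS_conj hh c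
    have e : c * (c⁻¹ * y * c) * c⁻¹ = y := by group
    rwa [e] at this
  exact h.mem_ZG_of_QG cd ha (h.htwo' K0 ha one_ne_zero (two_of_sq h3) h1 h2) h3 h4 h1

theorem le_cj_of {a : A4} (ha : a ≠ 0) {c g : G} (hcz : c * h.z' 1 = h.z' 1 * c)
    (hz : h.z' 1 ∈ cj g h.ZG) (hd : ∀ y ∈ cj g h.ZG, y * (c * h.v' a * c⁻¹) = (c * h.v' a * c⁻¹) * y) :
    cj g h.ZG = cj c h.ZG := by
  have hcard : ∀ g : G, Nat.card (cj g h.ZG) = 8 := by
    intro g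
    unfold Ru127.Form.cj
    rw [card_map_of_injective (MulAut.conj g).injective, h.card_ZG]
  have hcomm : ∀ x ∈ cj g h.ZG, ∀ y ∈ cj g h.ZG, x * y = y * x := by
    intro x hx y hy
    rw [mem_cj] at hx hy
    obtain ⟨b, hb⟩ := hx
    obtain ⟨e, he⟩ := hy
    have h1 : h.z' b * h.z' e = h.z' e * h.z' b := by rw [← h.z'_add, ← h.z'_add, add_comm]
    calc x * y = g * ((g⁻¹ * x * g) * (g⁻¹ * y * g)) * g⁻¹ := by group
      _ = g * ((g⁻¹ * y * g) * (g⁻¹ * x * g)) * g⁻¹ := by rw [hb, he, h1]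
      _ = _ := by group
  apply eq_of_le_of_card_ge
  · intro y hy
    have hyy : y * y = 1 := by
      rw [mem_cj] at hy
      obtain ⟨b, hb⟩ := hy
      calc y * y = g * ((g⁻¹ * y * g) * (g⁻¹ * y * g)) * g⁻¹ := by group
        _ = 1 := by rw [hb, h.z'_sq, mul_one, mul_inv_cancel]
    exact h.mem_cj_of cd ha hcz (hd y hy) (hcomm y hy _ hz) hyy (h.notD_cj cd hy)
  · rw [hcard, hcard]

/-- an element normalising `Z'` lies in `M` -/
theorem mem_of_nor (H2 : ∀ g, (∀ d, d ∈ h.DG ↔ g * d * g⁻¹ ∈ h.DG) → g ∈ M) {g : G} (hg : cj g h.ZG = h.ZG) :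
    g ∈ M := by
  have key : ∀ g : G, cj g h.ZG = h.ZG → ∀ d ∈ h.DG, g * d * g⁻¹ ∈ h.DG := by
    intro g hg d hd
    refine h.conj_DG K0 cd.μ (fun b => ?_) hd
    have h1 : h.z' b ∈ cj g h.ZG := by rw [hg]; exact h.z'_mem_ZG b
    exact mem_cj.1 h1
  have hg' : cj g⁻¹ h.ZG = h.ZG := by
    conv_lhs => rw [← hg]
    rw [Ru127.Form.cj_inv_cj]
  apply H2
  intro d
  constructor
  · exact key g hg d
  · intro hd
    have h1 := key g⁻¹ hg' _ hd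
    have e : g⁻¹ * (g * d * g⁻¹) * g⁻¹⁻¹ = d := by group
    rwa [e] at h1

/-- elements of `Q'` in the class of `v'` come from the class of `v` in `K` -/
theorem φ_mem_DD (H2 : ∀ g, (∀ d, d ∈ h.DG ↔ g * d * g⁻¹ ∈ h.DG) → g ∈ M) {q : K} (hq : q ∈ C.QQ)
    (hD : h.ll q ∈ h.DS) : q ∈ DD C := by
  obtain ⟨g, a, ha, hg⟩ := hD
  have hqz := h.QG_le_cz' K0 (x := h.ll q) ⟨q, hq, rfl⟩
  obtain ⟨c, hc1, hc2⟩ := h.htwo K0 ha one_ne_zero (g := g) (by rw [← hg]; exact hqz 1)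
  have h1 : cj 1 h.ZG = cj c h.ZG := by
    apply h.le_cj_of cd ha hc1
    · rw [Ru127.Form.cj_one]; exact h.z'_mem_ZG 1
    · intro y hy
      rw [Ru127.Form.cj_one] at hy
      obtain ⟨b, rfl⟩ := hy
      rw [hc2, ← hg]
      exact (hqz b).symm
  rw [Ru127.Form.cj_one] at h1
  have hcM : c ∈ M := h.mem_of_nor cd H2 h1.symm
  refine ⟨φ ⟨c, hcM⟩, a, ha, ?_⟩
  apply h.ll_inj (two_QQ K0 hq) ((two_v a).conj _)
  rw [hg, ← hc2]
  exact h.conj_ll ⟨c, hcM⟩ (two_v a)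

end fin

open Classical in
/-- `φ` on `G` -/
noncomputable def φG (_h : Cov C M φ) (x : G) : K := if hx : x ∈ M then φ ⟨x, hx⟩ else 1

theorem φG_ll {q : K} (hq : Two q) : h.φG (h.ll q) = q := by
  unfold φG
  rw [dif_pos (h.ll_mem q)]
  exact h.toO.φ_lf hq

section fin2

variable [Finite G] [Finite K] {K0 : Coord C} (cd : Cd C K0)

include cd

/-- coordinates on `Q'` -/
theorem qc (H2 : ∀ g, (∀ d, d ∈ h.DG ↔ g * d * g⁻¹ ∈ h.DG) → g ∈ M) :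
    QC h.DS h.ZG (h.QG K0) R8 (fun x => K0.π (h.φG x)) where
  le := by
    rintro _ ⟨b, rfl⟩
    exact h.z'_mem_QG K0 b
  π_mul := by
    rintro _ ⟨q, hq, rfl⟩ _ ⟨r, hr, rfl⟩
    rw [← h.ll_mul (isPGroup_QQ K0) hq hr, h.φG_ll (two_QQ K0 (mul_mem hq hr)), h.φG_ll (two_QQ K0 hq),
      h.φG_ll (two_QQ K0 hr), K0.mul q hq r hr]
  π_surj := by
    intro w
    obtain ⟨q, hq, rfl⟩ := K0.surj w
    exact ⟨h.ll q, ⟨q, hq, rfl⟩, by rw [h.φG_ll (two_QQ K0 hq)]⟩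
  π_ker := by
    rintro _ ⟨q, hq, rfl⟩
    rw [h.φG_ll (two_QQ K0 hq)]
    constructor
    · intro h0
      obtain ⟨e, rfl⟩ := K0.ker q hq h0
      exact h.z'_mem_ZG e
    · rintro ⟨e, he⟩
      have : q = C.z e := h.ll_inj (two_QQ K0 hq) (two_z e) he
      rw [this]
      have h1 := K0.vU 0 0 e
      rw [C.v_zero, one_mul, ← C.z_eq] at h1
      exact h1
  card := h.card_ZG
  T_iff := by
    rintro _ ⟨q, hq, rfl⟩
    rw [h.φG_ll (two_QQ K0 hq)]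
    have hqZ : q ∈ Subgroup.centralizer (Zs C : Set K) := (mem_cent_iff K0 cd.μ).2 hq
    rw [← cd.co.D_iff _ hqZ]
    exact ⟨h.φ_mem_DD cd H2 hq, h.ll_mem_DS⟩

end fin2

end Cov

/-- conjugation of coordinates -/
theorem qc_cj {W F : Type} [AddCommGroup W] [AddCommGroup F] {G : Type*} [Group G] {D : Set G} {a Q : Subgroup G}
    {R : RuForm W F} {π : G → W} (c : QC D a Q R π) (hD : ∀ d ∈ D, ∀ g, g * d * g⁻¹ ∈ D) (g : G) :
    QC D (cj g a) (cj g Q) R (fun x => π (g⁻¹ * x * g)) where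
  le := by
    intro x hx
    rw [mem_cj] at hx ⊢
    exact c.le hx
  π_mul := by
    intro x hx y hy
    rw [mem_cj] at hx hy
    rw [← c.π_mul _ hx _ hy]
    congr 1
    group
  π_surj := by
    intro w
    obtain ⟨x, hx, rfl⟩ := c.π_surj w
    have e : g⁻¹ * (g * x * g⁻¹) * g = x := by group
    refine ⟨g * x * g⁻¹, ?_, ?_⟩
    · rw [mem_cj, e]; exact hx
    · show π (g⁻¹ * (g * x * g⁻¹) * g) = π x
      rw [e]
  π_ker := by
    intro x hx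
    rw [mem_cj] at hx ⊢
    exact c.π_ker _ hx
  card := by
    unfold Ru127.Form.cj
    rw [card_map_of_injective (MulAut.conj g).injective, c.card]
  T_iff := by
    intro x hx
    rw [mem_cj] at hx
    rw [← c.T_iff _ hx]
    constructor
    · intro h
      have := hD _ h g⁻¹
      rwa [inv_inv] at this
    · intro h
      have := hD _ h g
      have e : g * (g⁻¹ * x * g) * g⁻¹ = x := by group
      rwa [e] at this

end Cfsg.Agent.RuC
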